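import Groth.Prelude.Def_GmAct
import Mathlib.RingTheory.MvPolynomial.Ideal

/-!
# The coordinates of `R[s,t]/(st - π)` form a regular pair
-/

set_option autoImplicit false

universe u

open MvPolynomial

namespace Groth.Agent.Theta10

variable {R : Type u} [CommRing R] [IsDomain R] {π : R}

local notation "P₂" => MvPolynomial (Fin 2) R

theorem prime_coord (i : Fin 2) : Prime (X i : P₂) := by
  have : (X i : P₂).IsHomogeneous 1 := isHomogeneous_X _ _
  exact MvPolynomial.X_prime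

omit [IsDomain R] in
theorem coord_not_dvd_rel (hπ : π ≠ 0) (i : Fin 2) : ¬ (X i : P₂) ∣ X 0 * X 1 - C π := by
  rintro ⟨c, hc⟩
  have := congrArg constantCoeff hc
  simp [hπ] at this

omit [IsDomain R] in
theorem mem_coords {q : P₂} (h : constantCoeff q = 0) : ∃ a b, q = X 0 * a + X 1 * b := by
  have hm : q ∈ Ideal.span ((X : Fin 2 → P₂) '' Set.univ) := by
    rw [mem_ideal_span_X_image]
    intro m hm
    by_contra hne
    push Not at hne
    have hm0 : m = 0 := Finsupp.ext fun i => by simpa using hne i (Set.mem_univ i)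
    subst hm0
    exact (mem_support_iff.1 hm) h
  have e : ((X : Fin 2 → P₂) '' Set.univ) = {X 0, X 1} := by
    ext x
    simp [Fin.exists_fin_two, eq_comm]
  rw [e, Ideal.mem_span_pair] at hm
  obtain ⟨a, b, hab⟩ := hm
  exact ⟨a, b, by rw [← hab]; ring⟩

theorem coord_regular (hπ : π ≠ 0) (i : Fin 2) (x : ThetaS.STRing R π)
    (h : Ideal.Quotient.mk _ (X i : P₂) * x = 0) : x = 0 := by
  obtain ⟨p, rfl⟩ := Ideal.Quotient.mk_surjective x
  rw [← map_mul, Ideal.Quotient.eq_zero_iff_mem, Ideal.mem_span_singleton] at h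
  obtain ⟨q, hq⟩ := h
  obtain ⟨q', rfl⟩ := ((prime_coord i).dvd_or_dvd ⟨p, hq.symm⟩).resolve_left (coord_not_dvd_rel hπ i)
  rw [Ideal.Quotient.eq_zero_iff_mem, Ideal.mem_span_singleton]
  exact ⟨q', mul_left_cancel₀ (prime_coord i).ne_zero (by rw [hq]; ring)⟩

theorem sFn_regular (hπ : π ≠ 0) : ∀ x, ThetaS.sFn R π * x = 0 → x = 0 := coord_regular hπ 0

theorem tFn_regular (hπ : π ≠ 0) : ∀ x, ThetaS.tFn R π * x = 0 → x = 0 := coord_regular hπ 1

theorem sFn_dvd_of_dvd_tFn_mul (hπ : π ≠ 0) (x : ThetaS.STRing R π)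
    (h : ThetaS.sFn R π ∣ ThetaS.tFn R π * x) : ThetaS.sFn R π ∣ x := by
  obtain ⟨p, rfl⟩ := Ideal.Quotient.mk_surjective x
  obtain ⟨y, hy⟩ := h
  obtain ⟨c, rfl⟩ := Ideal.Quotient.mk_surjective y
  rw [← map_mul, ← map_mul, Ideal.Quotient.mk_eq_mk_iff_sub_mem, Ideal.mem_span_singleton] at hy
  obtain ⟨q, hq⟩ := hy
  have h0 : constantCoeff q = 0 := by
    have := congrArg constantCoeff hq
    simpa [hπ] using this
  obtain ⟨a, b, rfl⟩ := mem_coords h0
  have h1 : (X 0 : P₂) ∣ X 1 * (p + C π * b) :=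
    ⟨c + X 1 * (X 0 * a + X 1 * b) - C π * a, by linear_combination hq⟩
  have h01 : ¬ (X 0 : P₂) ∣ X 1 := by
    rintro ⟨d, hd⟩
    have := congrArg (MvPolynomial.eval (fun i : Fin 2 => if i = 0 then (0 : R) else 1)) hd
    simp at this
  obtain ⟨d, hd⟩ := ((prime_coord 0).dvd_or_dvd h1).resolve_left h01
  refine ⟨Ideal.Quotient.mk _ (d - X 1 * b), ?_⟩
  rw [← map_mul, Ideal.Quotient.mk_eq_mk_iff_sub_mem, Ideal.mem_span_singleton]
  exact ⟨b, by linear_combination hd⟩

end Groth.Agent.Theta10
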