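import Groth.Agent.Theta10.Inst
import Groth.Agent.Theta10.STAlg
import Groth.Agent.AlgStLib.Small

/-!
# Affine morphisms are Θ-reductive and S-complete
-/

set_option autoImplicit false
set_option linter.style.haveILetI false

universe u

open CategoryTheory MonoidalCategory CartesianMonoidalCategory AlgebraicGeometry Opposite
open scoped TensorProduct Polynomial

namespace Groth.Agent.Theta10

variable {R : Type u} [CommRing R]

theorem isAffineHom_gm : IsAffineHom (ThetaS.Gm R).hom :=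
  inferInstanceAs (IsAffineHom (Spec.map (CommRingCat.ofHom (algebraMap R (ThetaS.Lau R)))))

theorem flat_gm : Flat (ThetaS.Gm R).hom := by
  show Flat (Spec.map (CommRingCat.ofHom (algebraMap R (ThetaS.Lau R))))
  rw [Flat.SpecMap_iff, CommRingCat.hom_ofHom, RingHom.flat_algebraMap_iff]
  exact inferInstanceAs (Module.Flat R (MonoidAlgebra R (Multiplicative ℤ)))

theorem flat_snd_gm (B : Over (Spec (CommRingCat.of R))) : Flat (snd (ThetaS.Gm R) B).left := by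
  haveI := flat_gm (R := R)
  rw [Over.snd_left]
  infer_instance

theorem isAffine_tensor_gm (B : Over (Spec (CommRingCat.of R))) [IsAffine B.left] :
    IsAffine (ThetaS.Gm R ⊗ B).left := by
  haveI := isAffineHom_gm (R := R)
  haveI : IsAffineHom (snd (ThetaS.Gm R) B).left := by
    rw [Over.snd_left]
    exact MorphismProperty.of_isPullback (P := @IsAffineHom)
      (IsPullback.of_hasPullback (ThetaS.Gm R).hom B.hom) ‹_›
  exact isAffine_of_isAffineHom (snd (ThetaS.Gm R) B).left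

variable [IsDomain R]

omit [IsDomain R] in
theorem stU_invariant (π : R) : (ThetaS.stAction R π).act.left ⁻¹ᵁ stU R π =
    (snd (ThetaS.Gm R) (ThetaS.STSch R π)).left ⁻¹ᵁ stU R π := by
  have hu : uPair R (ThetaS.STRing R π) ≫ (ThetaS.stAction R π).act = CoactBr.pt (stUniv R π) := by
    let a : ThetaS.STRing R π ⊗[R] ThetaS.Lau R := ThetaS.sFn R π ⊗ₜ[R] 1
    let b : ThetaS.STRing R π ⊗[R] ThetaS.Lau R := ThetaS.tFn R π ⊗ₜ[R] 1
    have h : (Algebra.TensorProduct.includeLeft :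
        ThetaS.STRing R π →ₐ[R] ThetaS.STRing R π ⊗[R] ThetaS.Lau R) = ThetaS.stPt a b (by
      rw [Algebra.TensorProduct.tmul_mul_tmul, ThetaS.sFn_mul_tFn, _root_.one_mul,
        Algebra.TensorProduct.algebraMap_apply]) :=
      by
      refine @ThetaS.stRing_algHom_ext R _ π (ThetaS.STRing R π ⊗[R] ThetaS.Lau R) _ _ _ _ ?_ ?_
      · rw [ThetaS.stPt_sFn]; rfl
      · rw [ThetaS.stPt_tFn]; rfl
    rw [uPair, h]
    refine (ThetaS.stAction_pt _ a b _).trans (congrArg CoactBr.pt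
      (@ThetaS.stRing_algHom_ext R _ π (ThetaS.STRing R π ⊗[R] ThetaS.Lau R) _ _ _ _ ?_ ?_))
    · simp [stUniv, a]
    · simp [stUniv, b]
  refine preimage_act_eq R (ThetaS.stAction R π) (stUniv R π) hu _ _ ?_ ?_
  · rw [stUniv, ThetaS.stPt_sFn]; exact associated_tmul_unit R _ _
  · rw [stUniv, ThetaS.stPt_tFn]; exact associated_tmul_unit R _ _

theorem st_bijective {π : R} (hπ : π ≠ 0) : Function.Bijective (stU R π).ι.appTop :=
  spec_bijective _ _ (sFn_regular hπ) (tFn_regular hπ) (sFn_dvd_of_dvd_tFn_mul hπ)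

variable {S : Scheme.{u}} (h : Spec (CommRingCat.of R) ⟶ S) {𝒳 𝒴 : AlgSt.Cat S} {f : 𝒳 ⥤ᵇ 𝒴}

theorem liftsUniquely_thetaIncl (hn : Nice f) (hf : AlgSt.RepByAlgSpWith (AlgSp.RepWith @IsAffineHom) f)
    {ϖ : R} (hϖ : ϖ ≠ 0) : LiftSq.LiftsUniquely (ThetaS.thetaIncl Scheme.fppfPrecoverage R ϖ h) f := by
  haveI := isAffineHom_gm (R := R)
  haveI : IsAffine (ThetaS.Line R).left := inferInstanceAs (IsAffine (Spec (CommRingCat.of R[X])))
  haveI := isAffine_tensor_gm (ThetaS.Line R)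
  haveI := flat_snd_gm (ThetaS.Line R)
  exact liftsUniquely_fullSub h (lineU_invariant R ϖ) (missesOrigin_iff R ϖ) hn hf (line_bijective R ϖ hϖ)
    (ι_appTop_preimage_injective _ (ThetaS.lineFn Polynomial.X)
      (spec_mul_eq_zero (Polynomial.X : R[X]) fun _ e => (mul_eq_zero.1 e).resolve_left Polynomial.X_ne_zero)
      le_sup_left)

theorem liftsUniquely_stIncl (hn : Nice f) (hf : AlgSt.RepByAlgSpWith (AlgSp.RepWith @IsAffineHom) f)
    {π : R} (hπ : π ≠ 0) : LiftSq.LiftsUniquely (ThetaS.stIncl Scheme.fppfPrecoverage R π h) f := by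
  haveI := isAffineHom_gm (R := R)
  haveI : IsAffine (ThetaS.STSch R π).left := inferInstanceAs (IsAffine (Spec (CommRingCat.of (ThetaS.STRing R π))))
  haveI := isAffine_tensor_gm (ThetaS.STSch R π)
  haveI := flat_snd_gm (ThetaS.STSch R π)
  exact liftsUniquely_fullSub h (stU_invariant π) (missesNode_iff R π) hn hf (st_bijective hπ)
    (ι_appTop_preimage_injective _ (ThetaS.stFn (ThetaS.sFn R π))
      (spec_mul_eq_zero _ (sFn_regular hπ)) le_sup_left)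

theorem nice_of_affine {S : Scheme.{u}} {𝒳 𝒴 : AlgSt.Cat S} {f : 𝒳 ⥤ᵇ 𝒴} (h𝒳 : FibCat.IsFibGrpd 𝒳.p)
    (h𝒴 : FibCat.IsFibGrpd 𝒴.p) (hf : AlgSt.RepByAlgSpWith (AlgSp.RepWith @IsAffineHom) f) : Nice f :=
  ⟨h𝒳, h𝒴, AlgStLib.faithful_of_repByAlgSp1 h𝒴 f (AlgStLib.repByAlgSp1_of_repByAlgSpWith hf)⟩

theorem isThetaReductive_of_affine {S : Scheme.{u}} {𝒳 𝒴 : AlgSt.Cat S} {f : 𝒳 ⥤ᵇ 𝒴}
    (h𝒳 : FibCat.IsFibGrpd 𝒳.p) (h𝒴 : FibCat.IsFibGrpd 𝒴.p)
    (hf : AlgSt.RepByAlgSpWith (AlgSp.RepWith @IsAffineHom) f) :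
    ThetaS.IsThetaReductive Scheme.fppfPrecoverage f := fun _ _ _ _ _ hϖ h =>
  liftsUniquely_thetaIncl h (nice_of_affine h𝒳 h𝒴 hf) hf hϖ.ne_zero

theorem isSComplete_of_affine {S : Scheme.{u}} {𝒳 𝒴 : AlgSt.Cat S} {f : 𝒳 ⥤ᵇ 𝒴}
    (h𝒳 : FibCat.IsFibGrpd 𝒳.p) (h𝒴 : FibCat.IsFibGrpd 𝒴.p)
    (hf : AlgSt.RepByAlgSpWith (AlgSp.RepWith @IsAffineHom) f) :
    ThetaS.IsSComplete Scheme.fppfPrecoverage f := fun _ _ _ _ _ hπ h =>
  liftsUniquely_stIncl h (nice_of_affine h𝒳 h𝒴 hf) hf hπ.ne_zero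

end Groth.Agent.Theta10
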