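import Groth.Agent.Theta10.AffineSec
import Groth.Agent.AlgSpPts.SepDescent
import Groth.Agent.AlgSpDec.FppfLqf
import Groth.Agent.AlgSpDec.LqfScheme
import Groth.Agent.FibBase.Fp
import Groth.Agent.FibBase.Setoid

/-!
# For a separated representable morphism classes agreeing on a schematically dense part agree
-/

set_option autoImplicit false
set_option linter.style.haveILetI false
set_option backward.isDefEq.respectTransparency false
set_option backward.isDefEq.respectTransparency.types false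

universe u

open CategoryTheory CategoryTheory.Functor CategoryTheory.Limits AlgebraicGeometry Opposite

namespace Groth.Agent.Theta10

open Groth.Agent.FibBase

variable {S : Scheme.{u}} {𝒳 𝒴 : AlgSt.Cat S} {f : 𝒳 ⥤ᵇ 𝒴}

theorem nice_diag (hn : Nice f) : Nice (FibCat.diag f) :=
  ⟨hn.fibX, fp_isFibGrpd hn.fibX hn.fibX hn.fibY, diag_faithful f⟩

theorem subsingleton_LQ_diag (hn : Nice f) (o : (FibCat.fp f f).obj) : Subsingleton (LQ (nice_diag hn) o) := by
  refine ⟨fun s t => ?_⟩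
  obtain ⟨c, rfl⟩ := LQ.mk_surjective _ s
  obtain ⟨d, rfl⟩ := LQ.mk_surjective _ t
  haveI := hn.faithful
  haveI := c.isIso_ι (nice_diag hn)
  haveI hfst : IsIso c.ι.hom.fst :=
    ⟨(CategoryTheory.inv c.ι).hom.fst, congrArg (fun k => k.hom.fst) (IsIso.hom_inv_id c.ι),
      congrArg (fun k => k.hom.fst) (IsIso.inv_hom_id c.ι)⟩
  haveI : IsIso (f.map c.ι.hom.fst) := inferInstanceAs (IsIso (f.toFunctor.map c.ι.hom.fst))
  refine Quotient.sound ⟨CategoryTheory.inv c.ι.hom.fst ≫ d.ι.hom.fst, ?_⟩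
  show c.ι ≫ (FibCat.diag f).map _ = 𝟙 o ≫ d.ι
  rw [Category.id_comp]
  apply ObjectProperty.hom_ext
  have h1 : c.ι.hom.fst ≫ CategoryTheory.inv c.ι.hom.fst ≫ d.ι.hom.fst = d.ι.hom.fst := IsIso.hom_inv_id_assoc _ _
  refine CategoricalPullback.hom_ext h1 (f.toFunctor.map_injective ?_)
  have hc : f.map c.ι.hom.fst ≫ 𝟙 _ = o.obj.iso.hom ≫ f.map c.ι.hom.snd := c.ι.hom.w
  have hd : f.map d.ι.hom.fst ≫ 𝟙 _ = o.obj.iso.hom ≫ f.map d.ι.hom.snd := d.ι.hom.w
  rw [Category.comp_id] at hc hd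
  rw [← cancel_epi o.obj.iso.hom]
  show o.obj.iso.hom ≫ f.map (c.ι.hom.snd ≫ CategoryTheory.inv c.ι.hom.fst ≫ d.ι.hom.fst) =
    o.obj.iso.hom ≫ f.map d.ι.hom.snd
  rw [f.toFunctor.map_comp, ← Category.assoc, ← hc, ← f.toFunctor.map_comp, h1]
  exact hd

/-- Classes agreeing along a schematically dense morphism to an affine base agree. -/
theorem pull_injective_of_separated (hn : Nice f) (hsep : AlgSt.IsSeparatedMor f) {Y Y' : 𝒴.obj} (ψ : Y' ⟶ Y)
    [IsAffine (𝒴.p.obj Y).left] (hg : Function.Injective (𝒴.p.map ψ).left.appTop) :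
    Function.Injective (pull hn ψ) := by
  intro s t hst
  obtain ⟨a, rfl⟩ := LQ.mk_surjective hn s
  obtain ⟨b, rfl⟩ := LQ.mk_surjective hn t
  obtain ⟨a', ma, ha⟩ := LiftOf.exists_pull hn ψ a
  obtain ⟨b', mb, hb⟩ := LiftOf.exists_pull hn ψ b
  rw [pull_eq hn ha, pull_eq hn hb] at hst
  obtain ⟨m, hm⟩ := Quotient.exact hst
  haveI := a.isIso_ι hn
  haveI := b.isIso_ι hn
  haveI := a'.isIso_ι hn
  haveI := b'.isIso_ι hn
  have hlift : ∀ {Z : 𝒴.obj} (x : LiftOf f Z) (y : LiftOf f Z) [IsIso x.ι] [IsIso y.ι],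
      𝒴.p.IsHomLift (𝟙 (𝒳.p.obj x.pt)) ((asIso x.ι).symm ≪≫ asIso y.ι).hom := by
    intro Z x y _ _
    haveI := x.vert
    haveI := y.vert
    refine isHomLift_id_congr x.base_pt.symm ?_
    haveI : 𝒴.p.IsHomLift (𝟙 (𝒴.p.obj Z)) (CategoryTheory.inv x.ι) := IsHomLift.lift_id_inv_isIso 𝒴.p _ x.ι
    exact inferInstanceAs (𝒴.p.IsHomLift (𝟙 (𝒴.p.obj Z)) (CategoryTheory.inv x.ι ≫ y.ι))
  let o : (FibCat.fp f f).obj := ⟨⟨a.pt, b.pt, (asIso a.ι).symm ≪≫ asIso b.ι⟩, hlift a b⟩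
  let o' : (FibCat.fp f f).obj := ⟨⟨a'.pt, b'.pt, (asIso a'.ι).symm ≪≫ asIso b'.ι⟩, hlift a' b'⟩
  let φ : o' ⟶ o := ObjectProperty.homMk
    { fst := ma
      snd := mb
      w := by
        show f.map ma ≫ CategoryTheory.inv a.ι ≫ b.ι = (CategoryTheory.inv a'.ι ≫ b'.ι) ≫ f.map mb
        rw [Category.assoc, IsIso.eq_inv_comp, hb, ← Category.assoc, ha]
        simp }
  haveI := hm.isIso hn
  let c' : LiftOf (FibCat.diag f) o' :=
    { pt := a'.pt
      ι := ObjectProperty.homMk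
        { fst := 𝟙 a'.pt
          snd := CategoryTheory.inv m
          w := by
            show f.map (𝟙 a'.pt) ≫ 𝟙 _ = (CategoryTheory.inv a'.ι ≫ b'.ι) ≫ f.map (CategoryTheory.inv m)
            rw [f.toFunctor.map_id, Category.comp_id, Category.assoc, IsIso.eq_inv_comp, Category.comp_id]
            exact ((hm.inv hn).trans (Category.id_comp _)).symm }
      vert := by
        refine isHomLift_id_of_map_eq (p := (FibCat.fp f f).p) (a := o') (b := (FibCat.diag f).obj a'.pt) rfl rfl ?_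
        exact (𝒳.p.map_id a'.pt).trans (eqToHom_refl _ rfl).symm }
  obtain ⟨D⟩ := exists_repAt (nice_diag hn) hsep o
  -- the map to the base is a monomorphism
  have hinj : ∀ (T : (Over S)ᵒᵖ) (x y : D.F.obj.obj.obj T), D.π.hom.app T x = D.π.hom.app T y → x = y := by
    intro T x y hxy
    obtain ⟨g, hg'⟩ : ∃ g : T.unop ⟶ (FibCat.fp f f).p.obj o, D.π.hom.app T x = ⟨g⟩ := ⟨_, rfl⟩
    obtain ⟨p, φp, hφp⟩ := (nice_diag hn).fibY.exists_lift g
    obtain ⟨T⟩ := T
    obtain rfl : (FibCat.fp f f).p.obj p = T := IsHomLift.domain_eq (FibCat.fp f f).p g φp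
    have hgp : (FibCat.fp f f).p.map φp = g := by
      haveI := hφp
      simpa using IsHomLift.fac' (FibCat.fp f f).p g φp
    have hx : D.π.hom.app _ x = ⟨(FibCat.fp f f).p.map φp⟩ := hg'.trans (congrArg ULift.up hgp.symm)
    have hy : D.π.hom.app _ y = ⟨(FibCat.fp f f).p.map φp⟩ := hxy.symm.trans hx
    haveI := subsingleton_LQ_diag hn p
    exact congrArg Subtype.val ((D.Φ φp).injective (Subsingleton.elim (D.Φ φp ⟨x, hx⟩) (D.Φ φp ⟨y, hy⟩)))
  haveI : Mono D.π := ⟨fun {W} k l hkl => ObjectProperty.hom_ext _ (NatTrans.ext (funext fun T =>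
    ConcreteCategory.hom_ext _ _ fun w => hinj T _ _ (congrArg (fun q => q.hom.app T w) hkl)))⟩
  obtain ⟨hsp, ⟨hlft, -⟩, huc⟩ := D.prop
  have hU : AlgSp.IsAlgSpace ((AlgSp.yon S).obj ((FibCat.fp f f).p.obj o)) := AlgSp.IsAlgSpace.yon_obj _
  have hrep : AlgSp.Representable D.π := AlgSpDec.representable_of_lqf_separated D.F.property hU D.π
    (AlgSpDec.locP_lqf_of_mono D.π hlft) hsp
  have hci := AlgSpPts.repWith_isClosedImmersion_of_univClosed hrep (AlgSpLib.repWith_of_locP hU hrep hlft) huc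
  have hsq := hci.1.isPullback (𝟙 ((AlgSp.yon S).obj ((FibCat.fp f f).p.obj o)))
  haveI : IsIso (hci.1.fst (𝟙 ((AlgSp.yon S).obj ((FibCat.fp f f).p.obj o)))) := hsq.isIso_fst_of_isIso
  set p := hci.1.snd (𝟙 ((AlgSp.yon S).obj ((FibCat.fp f f).p.obj o)))
  set e := hci.1.fst (𝟙 ((AlgSp.yon S).obj ((FibCat.fp f f).p.obj o)))
  have hp : IsClosedImmersion p.left := hci.2 _ _ _ hsq
  have he : e ≫ D.π = (AlgSp.yon S).map p := hsq.w.trans (Category.comp_id _)
  -- the base of the pair is the base of the first object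
  have ho : (FibCat.fp f f).p.obj o = 𝒴.p.obj Y := a.base_pt
  haveI : IsAffine ((FibCat.fp f f).p.obj o).left := by rw [ho]; infer_instance
  let x' := ((D.Φ φ).symm (LQ.mk (nice_diag hn) c'))
  obtain ⟨z, hz⟩ : ∃ z, e.hom.app _ z = x'.1 :=
    ⟨(inv e).hom.app _ x'.1, congrArg (fun k => k.hom.app _ x'.1) (IsIso.inv_hom_id e)⟩
  have hzp : z.down ≫ p = (FibCat.fp f f).p.map φ := by
    have := (congrArg (fun k => k.hom.app _ z) he).symm.trans
      ((congrArg (D.π.hom.app _) hz).trans x'.2)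
    exact congrArg ULift.down this
  have hφinj : Function.Injective ((FibCat.fp f f).p.map φ).left.appTop := by
    show Function.Injective (𝒳.p.map ma).left.appTop
    haveI := ha.isHomLift
    have e1 : (𝒳.p.map ma).left = (eqToHom a'.base_pt).left ≫ (𝒴.p.map ψ).left ≫ (eqToHom a.base_pt.symm).left :=
      congrArg CommaMorphism.left (IsHomLift.fac' 𝒳.p (𝒴.p.map ψ) ma)
    rw [e1, Scheme.Hom.comp_appTop, Scheme.Hom.comp_appTop]
    exact ((ConcreteCategory.bijective_of_isIso (eqToHom a'.base_pt).left.appTop).1.comp hg).comp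
      (ConcreteCategory.bijective_of_isIso (eqToHom a.base_pt.symm).left.appTop).1
  -- a closed subscheme containing a schematically dense part is everything
  haveI : IsAffine (hci.1.pullback (𝟙 ((AlgSp.yon S).obj ((FibCat.fp f f).p.obj o)))).left :=
    isAffine_of_isAffineHom p.left
  have hbij : Function.Bijective p.left.appTop := by
    refine ⟨fun r r' hr => hφinj ?_, ?_⟩
    · rw [← hzp, Over.comp_left, Scheme.Hom.comp_appTop]
      exact congrArg z.down.left.appTop hr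
    · exact p.left.app_surjective ⊤ (isAffineOpen_top _)
  obtain ⟨σ, hσ⟩ := exists_hom_of_bijective p.left hbij (𝟙 _)
  have hσp : σ ≫ p.left = 𝟙 _ := hom_ext_of_injective p.left hbij.1 (by
    rw [reassoc_of% hσ, Category.comp_id])
  let σ' : (FibCat.fp f f).p.obj o ⟶ hci.1.pullback (𝟙 ((AlgSp.yon S).obj ((FibCat.fp f f).p.obj o))) :=
    Over.homMk σ (by rw [← Over.w p, reassoc_of% hσp])
  have hx₀ : D.π.hom.app _ (e.hom.app _ (⟨σ'⟩ : ULift _)) = ⟨(FibCat.fp f f).p.map (𝟙 o)⟩ := by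
    refine (congrArg (fun k => k.hom.app _ (⟨σ'⟩ : ULift _)) he).trans (congrArg ULift.up ?_)
    rw [(FibCat.fp f f).p.map_id]
    exact Over.OverMorphism.ext hσp
  obtain ⟨c, -⟩ := LQ.mk_surjective (nice_diag hn) (D.Φ (𝟙 o) ⟨_, hx₀⟩)
  haveI := c.isIso_ι (nice_diag hn)
  refine Quotient.sound ⟨c.ι.hom.fst ≫ (CategoryTheory.inv c.ι).hom.snd, ?_⟩
  show a.ι ≫ f.map (c.ι.hom.fst ≫ (CategoryTheory.inv c.ι).hom.snd) = 𝟙 Y ≫ b.ι
  have hw : f.map c.ι.hom.fst ≫ 𝟙 _ = (CategoryTheory.inv a.ι ≫ b.ι) ≫ f.map c.ι.hom.snd := c.ι.hom.w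
  have hinv : c.ι.hom.snd ≫ (CategoryTheory.inv c.ι).hom.snd = 𝟙 b.pt :=
    congrArg (fun k => k.hom.snd) (IsIso.hom_inv_id c.ι)
  rw [Category.comp_id] at hw
  rw [f.toFunctor.map_comp, hw, Category.assoc, ← f.toFunctor.map_comp, hinv, f.toFunctor.map_id]
  simp

end Groth.Agent.Theta10
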