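import Groth.Agent.Theta10.Main
import Groth.Agent.Theta10.SepInj
import Mathlib.Algebra.Polynomial.Basis

/-!
# The evaluation at one of filtrations of a separated representable morphism is injective
-/

set_option autoImplicit false
set_option linter.style.haveILetI false

universe u

open CategoryTheory MonoidalCategory CartesianMonoidalCategory AlgebraicGeometry Opposite
open scoped TensorProduct Polynomial

namespace Groth.Agent.Theta10

open Groth.Agent.QuotLib Groth.Agent.AlgStkX

variable {R : Type u} [CommRing R]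

theorem linePt_z_injective : Function.Injective (ThetaS.linePt (ThetaS.zPow R 1) : R[X] →ₐ[R] ThetaS.Lau R) := by
  let b : Module.Basis (Multiplicative ℤ) R (ThetaS.Lau R) :=
    Module.Basis.ofRepr (MonoidAlgebra.coeffLinearEquiv R)
  let r : ThetaS.Lau R →ₗ[R] R[X] :=
    b.constr R fun g => if 0 ≤ g.toAdd then (Polynomial.X : R[X]) ^ g.toAdd.toNat else 0
  have hzpow : ∀ n : ℕ, (ThetaS.zPow R 1) ^ n = ThetaS.zPow R n := fun n => by
    induction n with
    | zero => simp
    | succ n ih => rw [pow_succ, ih, ThetaS.zPow_mul]; simp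
  have hr : r ∘ₗ (ThetaS.linePt (ThetaS.zPow R 1)).toLinearMap = LinearMap.id := by
    refine (Polynomial.basisMonomials R).ext fun n => ?_
    simp only [LinearMap.comp_apply, LinearMap.id_apply, Polynomial.coe_basisMonomials, AlgHom.toLinearMap_apply]
    have h : ThetaS.linePt (ThetaS.zPow R 1) (Polynomial.monomial n (1 : R)) = b (Multiplicative.ofAdd (n : ℤ)) := by
      show Polynomial.aeval (ThetaS.zPow R 1) (Polynomial.monomial n (1 : R)) = _
      rw [Polynomial.aeval_monomial, map_one, _root_.one_mul, hzpow]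
      rfl
    rw [h]
    simp [r, Module.Basis.constr_basis, Polynomial.X_pow_eq_monomial]
  exact Function.LeftInverse.injective (g := r) fun p => LinearMap.congr_fun hr p

theorem injective_conj {S : Scheme.{u}} {A B C D : Over S} (e₁ : A = B) (e₂ : C = D) (m : B.left ⟶ C.left)
    (hm : Function.Injective m.appTop) :
    Function.Injective ((eqToHom e₁).left ≫ m ≫ (eqToHom e₂).left).appTop := by
  subst e₁ e₂
  simpa using hm

variable {S : Scheme.{u}} (h : Spec (CommRingCat.of R) ⟶ S) {𝒳 𝒴 : AlgSt.Cat S} {f : 𝒳 ⥤ᵇ 𝒴}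

theorem liftsUnique_thetaOne (hn : Nice f) (hrep : AlgSt.RepByAlgSp1 f) (hsep : AlgSt.IsSeparatedMor f) :
    LiftSq.LiftsUnique (ThetaS.thetaOne Scheme.fppfPrecoverage R h) f := by
  intro sq
  haveI := isAffineHom_gm (R := R)
  have hsh : ∀ b, IsSheafAt hn (sq.bot.obj b) := fun b =>
    isSheafAt_of_rep hn (P := ⊤) (AlgStLib.repByAlgSp1_iff_top.1 hrep) _
  let a₀ : (ThetaS.baseSt h).obj := ThetaS.Gm R
  let x : ThetaS.Gm R ⟶ ThetaS.Line R := Over.homMk ((ThetaS.Gm R).hom ≫ ThetaS.onePt R) (by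
    rw [Category.assoc, ThetaS.onePt_hom, Category.comp_id])
  have hx : x = CoactBr.pt (ThetaS.linePt (1 : ThetaS.Lau R)) := by
    have e : (Algebra.ofId R (ThetaS.Lau R)).comp (ThetaS.lineOne R) = ThetaS.linePt (1 : ThetaS.Lau R) := by
      apply Polynomial.algHom_ext; simp; rfl
    rw [← e, CoactBr.pt_comp]
    exact Over.OverMorphism.ext rfl
  let lam : ThetaS.Lau R →ₐ[R] ThetaS.Lau R := HopfAlgebra.antipodeAlgHom R (ThetaS.Lau R)
  let g : ThetaS.Gm R ⟶ ThetaS.Gm R := CoactBr.pt lam
  let jz : ThetaS.Gm R ⟶ ThetaS.Line R := CoactBr.pt (ThetaS.linePt (ThetaS.zPow R 1))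
  have hc : lift g (jz ≫ 𝟙 (ThetaS.Line R)) ≫ (ThetaS.lineAction R).act = x := by
    rw [Category.comp_id, hx]
    refine (ThetaS.lineAction_pt lam (ThetaS.zPow R 1)).trans ?_
    congr 1
    rw [show lam (ThetaS.zPow R 1) = ThetaS.zPow R (-1) from
      (HopfAlgebra.antipodeAlgHom_apply ..).trans (ThetaS.antipode_zPow R 1),
      ThetaS.zPow_mul, neg_add_cancel, ThetaS.zPow_zero]
  let ι₀ : (ThetaS.thetaOne Scheme.fppfPrecoverage R h).obj a₀ ⟶ uObj (ThetaS.lineAction R) :=
    mor x (𝟙 _) g jz hc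
  refine (chart h (ThetaS.lineAction R)).uniqLift (a₀ := a₀) hsh ι₀ ?_
  -- the base morphism of the chosen morphism
  haveI : (ThetaS.Theta Scheme.fppfPrecoverage R h).p.IsHomLift
      ((ThetaS.Theta Scheme.fppfPrecoverage R h).p.map ι₀) ι₀ := IsHomLift.map _ _
  haveI := sq.bot.preserves_isHomLift ((ThetaS.Theta Scheme.fppfPrecoverage R h).p.map ι₀) ι₀
  have hb : ι₀.base.left = Spec.map (CommRingCat.ofHom (ThetaS.linePt (ThetaS.zPow R 1)).toRingHom) :=
    (congrArg CommaMorphism.left (mor_base _ _ _ _ _)).trans (CoactBr.pt_left _)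
  have e : (𝒴.p.map (sq.bot.map ι₀)).left =
      (eqToHom (sq.bot.w_obj _)).left ≫ ι₀.base.left ≫ (eqToHom (sq.bot.w_obj _).symm).left :=
    congrArg CommaMorphism.left (IsHomLift.fac' 𝒴.p ((ThetaS.Theta Scheme.fppfPrecoverage R h).p.map ι₀)
      (sq.bot.map ι₀))
  haveI : IsAffine ((ThetaS.Theta Scheme.fppfPrecoverage R h).p.obj (uObj (ThetaS.lineAction R))).left :=
    inferInstanceAs (IsAffine (Spec (CommRingCat.of R[X])))
  haveI : IsAffine (𝒴.p.obj (sq.bot.obj (chart h (ThetaS.lineAction R)).u₀)).left := by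
    rw [sq.bot.w_obj]
    exact inferInstanceAs (IsAffine (Spec (CommRingCat.of R[X])))
  refine pull_injective_of_separated hn hsep _ ?_
  have hinj : Function.Injective
      (Spec.map (CommRingCat.ofHom (ThetaS.linePt (ThetaS.zPow R 1) : R[X] →ₐ[R] ThetaS.Lau R).toRingHom)).appTop := by
    intro p q hpq
    have := congrArg (Scheme.ΓSpecIso _).hom hpq
    rw [← ConcreteCategory.comp_apply, ← ConcreteCategory.comp_apply, Scheme.ΓSpecIso_naturality,
      ConcreteCategory.comp_apply, ConcreteCategory.comp_apply] at this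
    exact (ConcreteCategory.bijective_of_isIso (Scheme.ΓSpecIso (CommRingCat.of R[X])).hom).1
      (linePt_z_injective this)
  exact (congrArg (fun k => Function.Injective (Scheme.Hom.appTop k)) e).mpr
    (injective_conj (sq.bot.w_obj _) (sq.bot.w_obj _).symm _ ((congrArg (fun k => Function.Injective (Scheme.Hom.appTop k)) hb).mpr hinj))

end Groth.Agent.Theta10
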