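import Groth.Agent.Theta10.Sheaf
import Mathlib.AlgebraicGeometry.Morphisms.Affine

/-!
# Restriction of classes when the representing map is affine
-/

set_option autoImplicit false
set_option linter.style.haveILetI false
set_option backward.isDefEq.respectTransparency false
set_option backward.isDefEq.respectTransparency.types false

universe u

open CategoryTheory CategoryTheory.Functor CategoryTheory.Limits AlgebraicGeometry Opposite

namespace Groth.Agent.Theta10

variable {S : Scheme.{u}} {𝒳 𝒴 : AlgSt.Cat S} {f : 𝒳 ⥤ᵇ 𝒴} {hn : Nice f}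

/-- Maps into affine schemes from the map on global functions. -/
theorem exists_hom_of_appTop {T Z : Scheme.{u}} [IsAffine Z] (φ : Γ(Z, ⊤) ⟶ Γ(T, ⊤)) :
    ∃ g : T ⟶ Z, g.appTop = φ := by
  refine ⟨T.toSpecΓ ≫ Spec.map φ ≫ Z.isoSpec.inv, ?_⟩
  rw [Scheme.Hom.comp_appTop, Scheme.Hom.comp_appTop]
  have h := congrArg (fun k => Scheme.Hom.appTop k) (Scheme.toSpecΓ_isoSpec_inv Z)
  simp only [Scheme.Hom.comp_appTop, Scheme.toSpecΓ_appTop, Scheme.Hom.id_appTop] at h
  simp [Scheme.toSpecΓ_appTop, reassoc_of% h]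

theorem hom_ext_of_injective {T U Z : Scheme.{u}} [IsAffine Z] (g : T ⟶ U)
    (hg : Function.Injective g.appTop) {s t : U ⟶ Z} (h : g ≫ s = g ≫ t) : s = t := by
  refine ext_of_isAffine (CommRingCat.hom_ext (RingHom.ext fun x => hg ?_))
  have := congrArg (fun k => k.appTop x) h
  simpa [Scheme.Hom.comp_appTop] using this

theorem exists_hom_of_bijective {T U Z : Scheme.{u}} [IsAffine Z] (g : T ⟶ U)
    (hg : Function.Bijective g.appTop) (z : T ⟶ Z) : ∃ s : U ⟶ Z, g ≫ s = z := by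
  haveI : IsIso g.appTop := (ConcreteCategory.isIso_iff_bijective _).2 hg
  obtain ⟨s, hs⟩ := exists_hom_of_appTop (T := U) (z.appTop ≫ inv g.appTop)
  refine ⟨s, ext_of_isAffine ?_⟩
  rw [Scheme.Hom.comp_appTop, hs, Category.assoc, IsIso.inv_hom_id, Category.comp_id]

variable {Y Y' : 𝒴.obj} (D : RepAt hn (AlgSp.RepWith @IsAffineHom) Y)

include D in
theorem RepAt.exists_scheme : ∃ (Z : Over S) (p : Z ⟶ 𝒴.p.obj Y) (e : (AlgSp.yon S).obj Z ≅ D.F.obj),
    IsAffineHom p.left ∧ e.hom ≫ D.π = (AlgSp.yon S).map p := by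
  have hr := D.prop
  have h := hr.1.isPullback (𝟙 ((AlgSp.yon S).obj (𝒴.p.obj Y)))
  haveI : IsIso (hr.1.fst (𝟙 ((AlgSp.yon S).obj (𝒴.p.obj Y)))) := h.isIso_fst_of_isIso
  exact ⟨_, hr.1.snd (𝟙 ((AlgSp.yon S).obj (𝒴.p.obj Y))), asIso (hr.1.fst (𝟙 ((AlgSp.yon S).obj (𝒴.p.obj Y)))),
    hr.2 _ _ _ h, h.w.trans (Category.comp_id _)⟩

include D in
theorem RepAt.exists_section_scheme : ∃ (Z : Over S) (p : Z ⟶ 𝒴.p.obj Y), IsAffineHom p.left ∧
    ∃ ev : ∀ T : Over S, (T ⟶ Z) ≃ D.F.obj.obj.obj (op T),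
      (∀ (T : Over S) z, D.π.hom.app _ (ev T z) = ⟨z ≫ p⟩) ∧
      ∀ {T T' : Over S} (g : T' ⟶ T) z, D.F.obj.obj.map g.op (ev T z) = ev T' (g ≫ z) := by
  obtain ⟨Z, p, e, hp, he⟩ := D.exists_scheme
  refine ⟨Z, p, hp, fun T => Equiv.ulift.symm.trans
    (((sheafToPresheaf _ _).mapIso e).app (op T)).toEquiv, fun T z => ?_, fun g z => ?_⟩
  · exact congrArg (fun k => k.hom.app (op _) (⟨z⟩ : ULift _)) he
  · exact (NatTrans.naturality_apply e.hom.hom g.op (⟨z⟩ : ULift _)).symm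

include D in
theorem RepAt.pull_injective_affine (ψ : Y' ⟶ Y) [IsAffine (𝒴.p.obj Y).left]
    (hg : Function.Injective (𝒴.p.map ψ).left.appTop) : Function.Injective (pull hn ψ) := by
  obtain ⟨Z, p, hp, ev, hπ, hev⟩ := D.exists_section_scheme
  haveI : IsAffine Z.left := isAffine_of_isAffineHom p.left
  refine D.pull_injective ψ fun x y hx hy e => ?_
  obtain ⟨s, rfl⟩ := (ev _).surjective x
  obtain ⟨t, rfl⟩ := (ev _).surjective y
  rw [hev, hev] at e
  exact congrArg (ev _) (Over.OverMorphism.ext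
    (hom_ext_of_injective (𝒴.p.map ψ).left hg (congrArg CommaMorphism.left ((ev _).injective e))))

include D in
theorem RepAt.pull_surjective_affine (ψ : Y' ⟶ Y) [IsAffine (𝒴.p.obj Y).left]
    (hg : Function.Bijective (𝒴.p.map ψ).left.appTop) : Function.Surjective (pull hn ψ) := by
  obtain ⟨Z, p, hp, ev, hπ, hev⟩ := D.exists_section_scheme
  haveI : IsAffine Z.left := isAffine_of_isAffineHom p.left
  refine D.pull_surjective ψ fun z hz => ?_
  obtain ⟨w, rfl⟩ := (ev _).surjective z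
  rw [hπ] at hz
  have hw : w ≫ p = 𝒴.p.map ψ := congrArg ULift.down hz
  obtain ⟨s, hs⟩ := exists_hom_of_bijective (𝒴.p.map ψ).left hg w.left
  have hsp : s ≫ p.left = 𝟙 _ := hom_ext_of_injective (𝒴.p.map ψ).left hg.1 (by
    rw [reassoc_of% hs, Category.comp_id]; exact congrArg CommaMorphism.left hw)
  refine ⟨ev _ (Over.homMk s (by rw [← Over.w p, reassoc_of% hsp])), ?_, ?_⟩
  · rw [hπ]
    exact congrArg ULift.up (Over.OverMorphism.ext hsp)
  · rw [hev]
    exact congrArg (ev _) (Over.OverMorphism.ext hs)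

end Groth.Agent.Theta10
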