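import Groth.Agent.Theta10.Extend
import Groth.Agent.Theta10.AffineSec
import Groth.Agent.AlgStkX.TrivCalc
import Groth.Agent.AlgStkX.AffineTorsor
import Groth.Prelude.Def_ThetaS

/-!
# The chart of a quotient stack and lifting against open substacks
-/

set_option autoImplicit false
set_option linter.style.haveILetI false
set_option backward.isDefEq.respectTransparency false
set_option backward.isDefEq.respectTransparency.types false

universe u

open CategoryTheory CategoryTheory.Functor MonoidalCategory CartesianMonoidalCategory MonObj GrpObj AlgebraicGeometry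

namespace Groth.Agent.Theta10

open Groth.Agent.QuotLib Groth.Agent.AlgStkX Groth.Agent.GrpSchLib

local notation "K₀" => Scheme.fppfPrecoverage

variable {S S' : Scheme.{u}} (h : S' ⟶ S) {G X : Over S'} [GrpObj G] {aX : AlgGrp.Action G X}

variable (aX) in
/-- The quotient stack over the bigger base. -/
abbrev quotOver : AlgSt.Cat S := ThetaS.overS h (AlgSt.QuotSt K₀ G aX)

theorem isFibGrpd_quotOver [IsAffineHom G.hom] : FibCat.IsFibGrpd (quotOver h aX).p :=
  FibBase.isFibGrpd_comp (isStack_quotSt aX).1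
    ((FibBase.isFibSet_iff_comp (F := Over.map h) (FibBase.isFibSet_overForget S)).2
      (FibBase.isFibSet_overForget S')).1

variable (aX) in
/-- The chart. -/
noncomputable abbrev uObj : AlgSt.QuotObj K₀ G aX := triv K₀ G aX (𝟙 X)

theorem mor_one_cond {T : Over S'} (x : T ⟶ X) : lift (1 : T ⟶ G) (x ≫ 𝟙 X) ≫ aX.act = x := by
  rw [Category.comp_id, act_one]

/-- Every object mapping to the chart is the trivial torsor of the base of the morphism. -/
theorem exists_iso_triv {c : AlgSt.QuotObj K₀ G aX} (φ : c ⟶ uObj aX) :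
    ∃ i : c ≅ triv K₀ G aX φ.base, i.hom ≫ mor φ.base (𝟙 X) 1 φ.base (mor_one_cond _) = φ :=
  have w : (Iso.refl c.base).hom ≫ (mor (K := K₀) φ.base (𝟙 X) 1 φ.base (mor_one_cond _)).base = φ.base := by
    rw [Iso.refl_hom, Category.id_comp]; exact mor_base _ _ _ _ _
  ⟨homLiftIso (mor φ.base (𝟙 X) 1 φ.base (mor_one_cond _)) φ (Iso.refl c.base) w, homLift_comp _ _ _ w⟩

theorem cover_triv (A : AlgSt.QuotObj K₀ G aX) [IsAffineHom G.hom] :
    ∃ R ∈ QuotSh.J K₀ S ((quotOver h aX).p.obj A), ∀ ⦃V : Over S⦄ (g : V ⟶ (quotOver h aX).p.obj A), R g →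
      ∃ (c : AlgSt.QuotObj K₀ G aX) (φ : c ⟶ A) (_ : c ⟶ uObj aX), (quotOver h aX).p.IsHomLift g φ := by
  obtain ⟨R, hR, hsec⟩ := exists_cover_triv A
  refine ⟨(Sieve.overEquiv _).symm (Sieve.generate R),
    GrothendieckTopology.overEquiv_symm_mem_over _ _ _ (Precoverage.generate_mem_toGrothendieck hR), fun V g hg => ?_⟩
  obtain ⟨Y, k, r, hr, hfac⟩ : (Sieve.generate R).arrows g.left := (Sieve.overEquiv_symm_iff _ _).1 hg
  obtain ⟨c, φ, hφ⟩ := (isFibGrpd_quotOver (aX := aX) h).exists_lift g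
  obtain ⟨x, t, ht⟩ := hsec r hr
  haveI := hφ
  have hV : (Over.map h).obj c.base = V := IsHomLift.domain_eq (quotOver h aX).p g φ
  have hgl : φ.base.left = (eqToHom hV).left ≫ g.left := by
    refine (congrArg CommaMorphism.left (IsHomLift.fac' (quotOver h aX).p g φ)).trans ?_
    simp
  let b : c.base ⟶ Over.mk (r ≫ A.base.hom) := Over.homMk ((eqToHom hV).left ≫ k) (by
    show ((eqToHom hV).left ≫ k) ≫ r ≫ A.base.hom = c.base.hom
    refine Eq.trans ((Category.assoc _ _ _).symm.trans (congrArg (· ≫ A.base.hom) ?_)) (Over.w φ.base)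
    rw [hgl, Category.assoc, hfac])
  have hb : b ≫ t.base = φ.base := by
    apply Over.OverMorphism.ext
    rw [ht]
    show ((eqToHom hV).left ≫ k) ≫ r = φ.base.left
    rw [hgl, Category.assoc, hfac]
  exact ⟨c, φ, homLift t φ b hb ≫ mor x (𝟙 X) 1 x (mor_one_cond _), hφ⟩

theorem univ_cond : lift (fst G X) (snd G X ≫ 𝟙 X) ≫ aX.act = aX.act := by
  rw [Category.comp_id, lift_fst_snd, Category.id_comp]

variable (aX) in
/-- The chart of a quotient stack. -/
noncomputable def chart [IsAffineHom G.hom] : Chart (quotOver h aX) where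
  u₀ := uObj aX
  cW := triv K₀ G aX aX.act
  ψ₁ := mor aX.act (𝟙 X) 1 aX.act (mor_one_cond _)
  ψ₂ := mor aX.act (𝟙 X) (fst G X) (snd G X) univ_cond
  cover := fun b => cover_triv h b
  univ := fun c φ₁ φ₂ => by
    obtain ⟨i, hi⟩ := exists_iso_triv φ₁
    let μ₂ : triv K₀ G aX φ₁.base ⟶ uObj aX := i.inv ≫ φ₂
    let g := gOf μ₂
    let b := bOf μ₂
    have hc : lift g (b ≫ 𝟙 X) ≫ aX.act = φ₁.base := lift_gOf_act μ₂
    have hc' : lift g b ≫ aX.act = φ₁.base := by rwa [Category.comp_id] at hc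
    let m : triv K₀ G aX φ₁.base ⟶ triv K₀ G aX aX.act := mor φ₁.base aX.act 1 (lift g b) (by rw [hc', act_one])
    refine ⟨i.hom ≫ m, ?_, ?_⟩
    · refine (Category.assoc _ _ _).trans (Eq.trans ?_ hi)
      refine congrArg (i.hom ≫ ·) (mor_ext ?_ ?_)
      · rw [mor_base]
        show bOf m ≫ bOf _ = _
        rw [mor_base, mor_base, hc']
      · rw [gOf_mor, gOf_comp, gOf_mor, gOf_mor, MonObj.comp_one, _root_.one_mul]
    · refine (Category.assoc _ _ _).trans ((?_ : _ = i.hom ≫ μ₂).trans (Iso.hom_inv_id_assoc _ _))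
      refine congrArg (i.hom ≫ ·) (mor_ext ?_ ?_)
      · show bOf m ≫ bOf _ = b
        rw [mor_base, mor_base, lift_snd]
      · rw [gOf_comp, gOf_mor, gOf_mor, mor_base, lift_fst, _root_.one_mul]

variable [IsAffineHom G.hom] {U : X.left.Opens} (hU : aX.act.left ⁻¹ᵁ U = (snd G X).left ⁻¹ᵁ U)
  {Q : AlgSt.QuotObj K₀ G aX → Prop} (hQ : ∀ A, Q A ↔ A.φ.left ⁻¹ᵁ U = ⊤)

include hQ in
omit [IsAffineHom G.hom] in
theorem Q_of_hom {A' A : AlgSt.QuotObj K₀ G aX} (φ : A' ⟶ A) (hA : Q A) : Q A' := by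
  rw [hQ] at hA ⊢
  rw [show A'.φ = φ.top ≫ A.φ from φ.wφ.symm, Over.comp_left, Scheme.Hom.comp_preimage, hA]
  rfl

include hU hQ in
omit [IsAffineHom G.hom] in
theorem Q_triv {T : Over S'} (x : T ⟶ X) (hx : x.left ⁻¹ᵁ U = ⊤) : Q (triv K₀ G aX x) := by
  rw [hQ, triv_φ, Over.comp_left, Scheme.Hom.comp_preimage, hU, ← Scheme.Hom.comp_preimage, ← Over.comp_left,
    whiskerLeft_snd, Over.comp_left, Scheme.Hom.comp_preimage, hx]
  rfl

include hQ in
omit [IsAffineHom G.hom] in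
theorem preimage_of_Q {T : Over S'} {x : T ⟶ X} (hx : Q (triv K₀ G aX x)) : x.left ⁻¹ᵁ U = ⊤ := by
  rw [hQ] at hx
  conv_lhs => rw [← sec_φ (K := K₀) (aX := aX) x, Over.comp_left, Scheme.Hom.comp_preimage, hx]
  rfl

variable (U) in
/-- The open subscheme as an object over the base. -/
abbrev openX : Over S' := Over.mk (U.ι ≫ X.hom)

variable (U) in
/-- Its inclusion. -/
abbrev inclX : openX U ⟶ X := Over.homMk U.ι rfl

theorem preimage_inclX : (inclX U).left ⁻¹ᵁ U = ⊤ := by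
  show U.ι ⁻¹ᵁ U = ⊤
  exact U.ι_preimage_self

variable {𝒳 𝒴 : AlgSt.Cat S} {f : 𝒳 ⥤ᵇ 𝒴}

include hU hQ in
theorem liftsUniquely_fullSub (hn : Nice f) (hf : AlgSt.RepByAlgSpWith (AlgSp.RepWith @IsAffineHom) f)
    [IsAffine X.left] (hbij : Function.Bijective U.ι.appTop)
    (hinjW : Function.Injective ((snd G X).left ⁻¹ᵁ U).ι.appTop) :
    LiftSq.LiftsUniquely (AlgSt.subIncl (quotOver h aX) Q) f := by
  intro sq
  let D := chart h aX
  have hsh : ∀ b, IsSheafAt hn (sq.bot.obj b) := fun b => isSheafAt_of_rep hn hf _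
  let a₀ : (AlgSt.fullSub (quotOver h aX) Q).obj := ⟨triv K₀ G aX (inclX U), Q_triv hU hQ _ preimage_inclX⟩
  let ι₀ : triv K₀ G aX (inclX U) ⟶ uObj aX := mor (inclX U) (𝟙 X) 1 (inclX U) (mor_one_cond _)
  haveI : IsAffineHom (snd G X).left := by
    rw [Over.snd_left]; exact MorphismProperty.pullback_snd _ _ inferInstance
  haveI : IsAffine (G ⊗ X).left := isAffine_of_isAffineHom (snd G X).left
  -- reduction of restrictions to the maps on functions
  have hres : ∀ {c b : AlgSt.QuotObj K₀ G aX} (φ : c ⟶ b), IsAffine b.base.left →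
      IsAffine (𝒴.p.obj (sq.bot.obj b)).left ∧
      (Function.Injective φ.base.left.appTop → Function.Injective (𝒴.p.map (sq.bot.map φ)).left.appTop) ∧
      (Function.Bijective φ.base.left.appTop → Function.Bijective (𝒴.p.map (sq.bot.map φ)).left.appTop) := by
    intro c b φ hb
    haveI : IsAffine ((quotOver h aX).p.obj b).left := hb
    haveI : (quotOver h aX).p.IsHomLift ((quotOver h aX).p.map φ) φ := IsHomLift.map _ _
    haveI := sq.bot.preserves_isHomLift ((quotOver h aX).p.map φ) φ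
    have e : (𝒴.p.map (sq.bot.map φ)).left =
        (eqToHom (sq.bot.w_obj c)).left ≫ φ.base.left ≫ (eqToHom (sq.bot.w_obj b).symm).left :=
      congrArg CommaMorphism.left (IsHomLift.fac' 𝒴.p ((quotOver h aX).p.map φ) (sq.bot.map φ))
    refine ⟨IsAffine.of_isIso (eqToHom (sq.bot.w_obj b)).left, ?_, ?_⟩ <;>
      intro hφ <;> rw [e, Scheme.Hom.comp_appTop, Scheme.Hom.comp_appTop]
    · exact ((ConcreteCategory.bijective_of_isIso (eqToHom (sq.bot.w_obj c)).left.appTop).1.comp hφ).comp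
        (ConcreteCategory.bijective_of_isIso (eqToHom (sq.bot.w_obj b).symm).left.appTop).1
    · exact ((ConcreteCategory.bijective_of_isIso (eqToHom (sq.bot.w_obj c)).left.appTop).comp hφ).comp
        (ConcreteCategory.bijective_of_isIso (eqToHom (sq.bot.w_obj b).symm).left.appTop)
  obtain ⟨DX⟩ := exists_repAt hn hf (sq.bot.obj (uObj aX))
  obtain ⟨haff, hi, hb⟩ := hres ι₀ (inferInstanceAs (IsAffine X.left))
  have hι : ι₀.base.left = U.ι := congrArg CommaMorphism.left (mor_base _ _ _ _ _)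
  haveI := haff
  refine ⟨?_, D.uniqLift (a₀ := a₀) hsh ι₀ (DX.pull_injective_affine _ (hi (hι ▸ hbij.1)))⟩
  -- the object over the preimage
  let W : Over S' := Over.mk (((snd G X).left ⁻¹ᵁ U).ι ≫ (G ⊗ X).hom)
  let w : W ⟶ G ⊗ X := Over.homMk ((snd G X).left ⁻¹ᵁ U).ι rfl
  have hw : (w ≫ aX.act).left ⁻¹ᵁ U = ⊤ := by
    rw [Over.comp_left, Scheme.Hom.comp_preimage, hU]
    exact Scheme.Opens.ι_preimage_self _
  let d₀ : (AlgSt.fullSub (quotOver h aX) Q).obj := ⟨triv K₀ G aX (w ≫ aX.act), Q_triv hU hQ _ hw⟩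
  let κ : triv K₀ G aX (w ≫ aX.act) ⟶ triv K₀ G aX aX.act :=
    mor (w ≫ aX.act) aX.act 1 w (by rw [act_one])
  have hfac : ∀ ⦃a : (AlgSt.fullSub (quotOver h aX) Q).obj⦄ (χ : a.obj ⟶ uObj aX),
      ∃ k : a ⟶ a₀, (AlgSt.subIncl (quotOver h aX) Q).map k ≫ ι₀ = χ := by
    intro a χ
    obtain ⟨i, -⟩ := exists_iso_triv χ
    have hlands := preimage_of_Q hQ (Q_of_hom hQ i.inv a.property)
    let l := IsOpenImmersion.lift U.ι χ.base.left (by
      rintro _ ⟨y, rfl⟩
      rw [Scheme.Opens.range_ι]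
      exact (show y ∈ χ.base.left ⁻¹ᵁ U by rw [hlands]; trivial))
    let b : a.obj.base ⟶ openX U := Over.homMk l (by
      show l ≫ U.ι ≫ X.hom = _
      rw [IsOpenImmersion.lift_fac_assoc]; exact Over.w χ.base)
    have hbι : b ≫ ι₀.base = χ.base := by
      apply Over.OverMorphism.ext
      rw [Over.comp_left, hι]
      exact IsOpenImmersion.lift_fac _ _ _
    exact ⟨ObjectProperty.homMk (homLift ι₀ χ b hbι), homLift_comp ι₀ χ b hbι⟩
  obtain ⟨k₁, hk₁⟩ := hfac (a := d₀) (κ ≫ D.ψ₁)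
  obtain ⟨k₂, hk₂⟩ := hfac (a := d₀) (κ ≫ D.ψ₂)
  obtain ⟨DW⟩ := exists_repAt hn hf (sq.bot.obj (triv K₀ G aX aX.act))
  obtain ⟨haffW, hiW, -⟩ := hres κ (inferInstanceAs (IsAffine (G ⊗ X).left))
  have hκ : κ.base.left = ((snd G X).left ⁻¹ᵁ U).ι := congrArg CommaMorphism.left (mor_base _ _ _ _ _)
  haveI := haffW
  refine D.hasLift (isFibGrpd_quotOver h) hsh (a₀ := a₀) ι₀ (DX.pull_surjective_affine _ (hb (hι ▸ hbij)))
    (d₀ := d₀) κ (DW.pull_injective_affine _ (hiW (hκ ▸ hinjW))) k₁ k₂ hk₁ hk₂ hfac ?_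
  intro a c φ
  exact ⟨⟨c, Q_of_hom hQ φ a.property⟩, ObjectProperty.homMk φ, 𝟙 c, inferInstanceAs (IsIso (𝟙 c)),
    Category.id_comp _⟩

end Groth.Agent.Theta10
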