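import Groth.Agent.Theta10.Sheaf

/-!
# Extension of families along a chart
-/

set_option autoImplicit false
set_option linter.style.haveILetI false
set_option backward.isDefEq.respectTransparency false
set_option backward.isDefEq.respectTransparency.types false

universe w v u

open CategoryTheory CategoryTheory.Functor AlgebraicGeometry Opposite

namespace Groth.Agent.Theta10

open Groth.Agent.FibBase

local notation "J₀" => QuotSh.J Scheme.fppfPrecoverage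

variable {S : Scheme.{u}}

/-- A chart: an object through which every object maps locally, with the universal pair of morphisms into it. -/
structure Chart (ℬ : BasedCategory.{v, w} (Over S)) where
  /-- the chart -/
  u₀ : ℬ.obj
  /-- the source of the universal pair -/
  cW : ℬ.obj
  /-- the first morphism -/
  ψ₁ : cW ⟶ u₀
  /-- the second morphism -/
  ψ₂ : cW ⟶ u₀
  cover : ∀ b, ∃ R ∈ J₀ S (ℬ.p.obj b), ∀ ⦃V : Over S⦄ (g : V ⟶ ℬ.p.obj b), R g →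
    ∃ (c : ℬ.obj) (φ : c ⟶ b) (_ : c ⟶ u₀), ℬ.p.IsHomLift g φ
  univ : ∀ ⦃c : ℬ.obj⦄ (φ₁ φ₂ : c ⟶ u₀), ∃ m, m ≫ ψ₁ = φ₁ ∧ m ≫ ψ₂ = φ₂

variable {𝒳 𝒴 : AlgSt.Cat S} {f : 𝒳 ⥤ᵇ 𝒴} {hn : Nice f} {ℬ : BasedCategory.{v, w} (Over S)}
  {bot : ℬ ⥤ᵇ 𝒴}

/-- Morphisms over the same base morphism factor through the image. -/
theorem exists_toImage (hn : Nice f) (bot : ℬ ⥤ᵇ 𝒴) {b c : ℬ.obj} (φ : c ⟶ b) {Y' : 𝒴.obj}
    (ψ : Y' ⟶ bot.obj b) (k : 𝒴.p.obj Y' ⟶ ℬ.p.obj c)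
    (hk : k ≫ ℬ.p.map φ = 𝒴.p.map ψ ≫ eqToHom (bot.w_obj b)) :
    ∃ ι : Y' ⟶ bot.obj c, ι ≫ bot.map φ = ψ ∧ 𝒴.p.map ι = k ≫ eqToHom (bot.w_obj c).symm := by
  haveI := hn.fibY
  haveI : 𝒴.p.IsHomLift (𝒴.p.map (bot.map φ)) (bot.map φ) := IsHomLift.map _ _
  haveI := FibBase.isSC (p := 𝒴.p) (𝒴.p.map (bot.map φ)) (bot.map φ)
  haveI : 𝒴.p.IsHomLift (𝒴.p.map ψ) ψ := IsHomLift.map _ _
  haveI : ℬ.p.IsHomLift (ℬ.p.map φ) φ := IsHomLift.map _ _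
  haveI := bot.preserves_isHomLift (ℬ.p.map φ) φ
  have hφ := IsHomLift.fac' 𝒴.p (ℬ.p.map φ) (bot.map φ)
  have e : 𝒴.p.map ψ = (k ≫ eqToHom (bot.w_obj c).symm) ≫ 𝒴.p.map (bot.map φ) := by
    simp [hφ, reassoc_of% hk]
  let ι := IsStronglyCartesian.map 𝒴.p (𝒴.p.map (bot.map φ)) (bot.map φ)
    (g := k ≫ eqToHom (bot.w_obj c).symm) (f' := 𝒴.p.map ψ) e ψ
  exact ⟨ι, IsStronglyCartesian.fac 𝒴.p _ _ _ _,
    by simpa using IsHomLift.fac' 𝒴.p (k ≫ eqToHom (bot.w_obj c).symm) ι⟩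

/-- Two classes agree when they agree on lifts of a covering sieve in `ℬ`. -/
theorem sep_lifts (hsh : ∀ b, IsSheafAt hn (bot.obj b)) {b : ℬ.obj} {R : Sieve (ℬ.p.obj b)}
    (hR : R ∈ J₀ S (ℬ.p.obj b)) {s t : LQ hn (bot.obj b)}
    (h : ∀ ⦃V : Over S⦄ (g : V ⟶ ℬ.p.obj b), R g → ∃ (c : ℬ.obj) (φ : c ⟶ b),
      ℬ.p.IsHomLift g φ ∧ pull hn (bot.map φ) s = pull hn (bot.map φ) t) : s = t := by
  refine (hsh b).sep (R.pullback (eqToHom (bot.w_obj b))) ((J₀ S).pullback_stable _ hR) s t fun Y' ψ hψ => ?_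
  obtain ⟨c, φ, hφ, he⟩ := h _ hψ
  haveI := hφ
  have hc : ℬ.p.obj c = 𝒴.p.obj Y' := IsHomLift.domain_eq ℬ.p (𝒴.p.map ψ ≫ eqToHom (bot.w_obj b)) φ
  obtain ⟨ι, hι, -⟩ := exists_toImage hn bot φ ψ (eqToHom hc.symm) (by
    haveI := hφ
    simp [IsHomLift.fac' ℬ.p (𝒴.p.map ψ ≫ eqToHom (bot.w_obj b)) φ])
  rw [← hι, ← pull_pull, ← pull_pull, he]

variable (D : Chart ℬ)

theorem Chart.family_ext (hsh : ∀ b, IsSheafAt hn (bot.obj b)) {s t : ∀ b, LQ hn (bot.obj b)}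
    (hs : IsFamily hn bot s) (ht : IsFamily hn bot t) (h : s D.u₀ = t D.u₀) : s = t := by
  funext b
  obtain ⟨R, hR, hc⟩ := D.cover b
  refine sep_lifts hsh hR fun V g hg => ?_
  obtain ⟨c, φ, χ, hφ⟩ := hc g hg
  refine ⟨c, φ, hφ, ?_⟩
  rw [hs φ, ht φ, ← hs χ, ← ht χ, h]

theorem Chart.family_exists (hℬ : FibCat.IsFibGrpd ℬ.p) (hsh : ∀ b, IsSheafAt hn (bot.obj b))
    (σ : LQ hn (bot.obj D.u₀)) (hσ : pull hn (bot.map D.ψ₁) σ = pull hn (bot.map D.ψ₂) σ) :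
    ∃ s, IsFamily hn bot s ∧ s D.u₀ = σ := by
  haveI := hn.fibY
  haveI := hℬ
  have hind : ∀ ⦃c : ℬ.obj⦄ (φ₁ φ₂ : c ⟶ D.u₀), pull hn (bot.map φ₁) σ = pull hn (bot.map φ₂) σ := by
    intro c φ₁ φ₂
    obtain ⟨m, rfl, rfl⟩ := D.univ φ₁ φ₂
    rw [bot.toFunctor.map_comp, bot.toFunctor.map_comp, ← pull_pull, ← pull_pull, hσ]
  have key : ∀ b, ∃ s : LQ hn (bot.obj b), ∀ ⦃c : ℬ.obj⦄ (φ : c ⟶ b) (χ : c ⟶ D.u₀),
      pull hn (bot.map φ) s = pull hn (bot.map χ) σ := by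
    intro b
    obtain ⟨R, hR, hc⟩ := D.cover b
    have hloc : ∀ ⦃Y' : 𝒴.obj⦄ (ψ : Y' ⟶ bot.obj b), (R.pullback (eqToHom (bot.w_obj b))) (𝒴.p.map ψ) →
        ∃ τ : LQ hn Y', ∀ ⦃c : ℬ.obj⦄ (φ : c ⟶ b) (χ : c ⟶ D.u₀) ⦃Y'' : 𝒴.obj⦄ (m : Y'' ⟶ Y') (ι : Y'' ⟶ bot.obj c),
          ι ≫ bot.map φ = m ≫ ψ → pull hn m τ = pull hn (ι ≫ bot.map χ) σ := by
      intro Y' ψ hψ
      obtain ⟨c₀, φ₀, χ₀, hφ₀⟩ := hc _ hψ
      haveI := hφ₀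
      have hc₀ : ℬ.p.obj c₀ = 𝒴.p.obj Y' := IsHomLift.domain_eq ℬ.p (𝒴.p.map ψ ≫ eqToHom (bot.w_obj b)) φ₀
      obtain ⟨ι₀, hι₀, hι₀p⟩ := exists_toImage hn bot φ₀ ψ (eqToHom hc₀.symm) (by
        haveI := hφ₀
        simp [IsHomLift.fac' ℬ.p (𝒴.p.map ψ ≫ eqToHom (bot.w_obj b)) φ₀])
      refine ⟨pull hn (ι₀ ≫ bot.map χ₀) σ, fun c φ χ Y'' m ι h => ?_⟩
      -- compare both through a lift of the composite
      let g : 𝒴.p.obj Y'' ⟶ ℬ.p.obj c := 𝒴.p.map ι ≫ eqToHom (bot.w_obj c)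
      obtain ⟨c', k, hk⟩ := hℬ.exists_lift g
      have hc' : ℬ.p.obj c' = 𝒴.p.obj Y'' := IsHomLift.domain_eq ℬ.p g k
      haveI := hk
      haveI : ℬ.p.IsHomLift (ℬ.p.map φ₀) φ₀ := IsHomLift.map _ _
      haveI := FibBase.isSC (p := ℬ.p) (ℬ.p.map φ₀) φ₀
      haveI : ℬ.p.IsHomLift (ℬ.p.map (k ≫ φ)) (k ≫ φ) := IsHomLift.map _ _
      haveI := hφ₀
      haveI : ℬ.p.IsHomLift (ℬ.p.map φ) φ := IsHomLift.map _ _
      haveI := bot.preserves_isHomLift (ℬ.p.map φ) φ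
      have he : ℬ.p.map (k ≫ φ) = (eqToHom hc' ≫ 𝒴.p.map m ≫ eqToHom hc₀.symm) ≫ ℬ.p.map φ₀ := by
        have h1 := congrArg 𝒴.p.map h
        rw [Functor.map_comp, Functor.map_comp] at h1
        rw [IsHomLift.fac' ℬ.p (𝒴.p.map ψ ≫ eqToHom (bot.w_obj b)) φ₀, ℬ.p.map_comp, IsHomLift.fac' ℬ.p g k]
        simp only [g, Category.assoc, eqToHom_trans_assoc, eqToHom_refl, Category.id_comp,
          Category.comp_id]
        rw [← reassoc_of% h1, IsHomLift.fac' 𝒴.p (ℬ.p.map φ) (bot.map φ)]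
        simp
      let k₀ := IsStronglyCartesian.map ℬ.p (ℬ.p.map φ₀) φ₀ (g := eqToHom hc' ≫ 𝒴.p.map m ≫ eqToHom hc₀.symm)
        (f' := ℬ.p.map (k ≫ φ)) he (k ≫ φ)
      have hk₀ : k₀ ≫ φ₀ = k ≫ φ := IsStronglyCartesian.fac ℬ.p _ _ _ _
      haveI := bot.preserves_isHomLift g k
      haveI : ℬ.p.IsHomLift (ℬ.p.map k) k := IsHomLift.map _ _
      obtain ⟨i, hi, hip⟩ := exists_toImage hn bot k ι (eqToHom hc'.symm) (by
        simp [IsHomLift.fac' ℬ.p g k, g])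
      have hmi : i ≫ bot.map k₀ = m ≫ ι₀ := by
        haveI : 𝒴.p.IsHomLift (𝒴.p.map (bot.map φ₀)) (bot.map φ₀) := IsHomLift.map _ _
        haveI := FibBase.isSC (p := 𝒴.p) (𝒴.p.map (bot.map φ₀)) (bot.map φ₀)
        let g' := 𝒴.p.map (m ≫ ι₀)
        haveI : 𝒴.p.IsHomLift g' (m ≫ ι₀) := IsHomLift.map _ _
        haveI : 𝒴.p.IsHomLift g' (i ≫ bot.map k₀) := by
          refine IsHomLift.of_fac' _ _ _ rfl rfl ?_
          have hk₀p := IsHomLift.fac' ℬ.p (eqToHom hc' ≫ 𝒴.p.map m ≫ eqToHom hc₀.symm) k₀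
          haveI : ℬ.p.IsHomLift (ℬ.p.map k₀) k₀ := IsHomLift.map _ _
          haveI := bot.preserves_isHomLift (ℬ.p.map k₀) k₀
          have hbk := IsHomLift.fac' 𝒴.p (ℬ.p.map k₀) (bot.map k₀)
          simp [g', hip, hι₀p, hbk, hk₀p]
        refine IsStronglyCartesian.ext 𝒴.p (𝒴.p.map (bot.map φ₀)) (bot.map φ₀) g' ?_
        rw [Category.assoc, ← bot.toFunctor.map_comp, hk₀, bot.toFunctor.map_comp, reassoc_of% hi, h,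
          Category.assoc, hι₀]
      calc pull hn m (pull hn (ι₀ ≫ bot.map χ₀) σ)
          = pull hn ((i ≫ bot.map k₀) ≫ bot.map χ₀) σ := by rw [hmi, pull_pull, Category.assoc]
        _ = pull hn i (pull hn (bot.map (k₀ ≫ χ₀)) σ) := by rw [bot.toFunctor.map_comp, pull_pull, Category.assoc]
        _ = pull hn i (pull hn (bot.map (k ≫ χ)) σ) := by rw [hind (k₀ ≫ χ₀) (k ≫ χ)]
        _ = pull hn (ι ≫ bot.map χ) σ := by rw [bot.toFunctor.map_comp, pull_pull, reassoc_of% hi]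
    choose τ hτ using hloc
    obtain ⟨s, hs⟩ := (hsh b).glue (R.pullback (eqToHom (bot.w_obj b))) ((J₀ S).pullback_stable _ hR) τ
      (fun Y'' Y' m ψ h h' => by
        obtain ⟨c, φ, χ, hφ⟩ := hc _ h'
        haveI := hφ
        have hc' : ℬ.p.obj c = 𝒴.p.obj Y'' := IsHomLift.domain_eq ℬ.p (𝒴.p.map (m ≫ ψ) ≫ eqToHom (bot.w_obj b)) φ
        obtain ⟨ι, hι, -⟩ := exists_toImage hn bot φ (m ≫ ψ) (eqToHom hc'.symm) (by
          haveI := hφ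
          simp [IsHomLift.fac' ℬ.p (𝒴.p.map (m ≫ ψ) ≫ eqToHom (bot.w_obj b)) φ])
        rw [hτ ψ h φ χ m ι hι]
        simpa using (hτ (m ≫ ψ) h' φ χ (𝟙 Y'') ι (by rw [Category.id_comp]; exact hι)).symm)
    refine ⟨s, fun c φ χ => ?_⟩
    haveI : ℬ.p.IsHomLift (ℬ.p.map φ) φ := IsHomLift.map _ _
    refine sep_lifts hsh ((J₀ S).pullback_stable (ℬ.p.map φ) hR) fun V g hg => ?_
    obtain ⟨c', k, hk⟩ := hℬ.exists_lift g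
    refine ⟨c', k, hk, ?_⟩
    haveI := bot.preserves_isHomLift g k
    have hR' : (R.pullback (eqToHom (bot.w_obj b))) (𝒴.p.map (bot.map (k ≫ φ))) := by
      haveI : ℬ.p.IsHomLift (ℬ.p.map (k ≫ φ)) (k ≫ φ) := IsHomLift.map _ _
      haveI := bot.preserves_isHomLift (ℬ.p.map (k ≫ φ)) (k ≫ φ)
      show R (𝒴.p.map (bot.map (k ≫ φ)) ≫ eqToHom (bot.w_obj b))
      haveI := bot.preserves_isHomLift (ℬ.p.map φ) φ
      have e1 := IsHomLift.fac' 𝒴.p g (bot.map k)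
      have e3 := IsHomLift.fac' 𝒴.p (ℬ.p.map φ) (bot.map φ)
      have e2 : 𝒴.p.map (bot.map (k ≫ φ)) ≫ eqToHom (bot.w_obj b) =
          (eqToHom (bot.w_obj c') ≫ eqToHom (IsHomLift.domain_eq ℬ.p g k)) ≫ g ≫ ℬ.p.map φ := by
        simp [e1, e3]
      rw [e2]
      exact R.downward_closed hg _
    rw [pull_pull, ← bot.toFunctor.map_comp, hs _ hR', pull_pull, ← bot.toFunctor.map_comp]
    simpa using hτ _ hR' (k ≫ φ) (k ≫ χ) (𝟙 _) (𝟙 _) (by simp)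
  choose s hs using key
  refine ⟨s, fun b' b φ₀ => ?_, ?_⟩
  · obtain ⟨R, hR, hc⟩ := D.cover b'
    refine sep_lifts hsh hR fun V g hg => ?_
    obtain ⟨c, φ, χ, hφ⟩ := hc g hg
    refine ⟨c, φ, hφ, ?_⟩
    rw [pull_pull, ← bot.toFunctor.map_comp, hs b (φ ≫ φ₀) χ, hs b' φ χ]
  · simpa using hs D.u₀ (𝟙 D.u₀) (𝟙 D.u₀)

section Restriction

variable {𝒜 : BasedCategory.{v, w} (Over S)} {j : 𝒜 ⥤ᵇ ℬ} {sq : LiftSq.Sq j f}

theorem Chart.uniqLift (hsh : ∀ b, IsSheafAt hn (sq.bot.obj b)) {a₀ : 𝒜.obj} (ι₀ : j.obj a₀ ⟶ D.u₀)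
    (hinj : Function.Injective (pull hn (sq.bot.map ι₀))) : sq.UniqLift :=
  uniqLift_of_families hn fun s t hs ht h => D.family_ext hsh hs ht (hinj (by rw [hs ι₀, ht ι₀, h a₀]))

theorem Chart.hasLift (hℬ : FibCat.IsFibGrpd ℬ.p) (hsh : ∀ b, IsSheafAt hn (sq.bot.obj b))
    {a₀ : 𝒜.obj} (ι₀ : j.obj a₀ ⟶ D.u₀) (hsurj : Function.Surjective (pull hn (sq.bot.map ι₀)))
    {d₀ : 𝒜.obj} (κ : j.obj d₀ ⟶ D.cW) (hκ : Function.Injective (pull hn (sq.bot.map κ)))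
    (k₁ k₂ : d₀ ⟶ a₀) (hk₁ : j.map k₁ ≫ ι₀ = κ ≫ D.ψ₁) (hk₂ : j.map k₂ ≫ ι₀ = κ ≫ D.ψ₂)
    (hfac : ∀ ⦃a : 𝒜.obj⦄ (χ : j.obj a ⟶ D.u₀), ∃ k, j.map k ≫ ι₀ = χ)
    (hdown : ∀ ⦃a : 𝒜.obj⦄ ⦃c : ℬ.obj⦄ (φ : c ⟶ j.obj a),
      ∃ (a' : 𝒜.obj) (k : a' ⟶ a) (i : c ⟶ j.obj a'), IsIso i ∧ i ≫ j.map k = φ) :
    sq.HasLift := by
  obtain ⟨σ, hσ⟩ := hsurj (topClass hn sq a₀)
  have ht : ∀ {a a' : 𝒜.obj} (k : a' ⟶ a), pull hn (sq.bot.map (j.map k)) (topClass hn sq a) = topClass hn sq a' :=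
    fun k => isFamily_topClass hn sq k
  have hinv : pull hn (sq.bot.map D.ψ₁) σ = pull hn (sq.bot.map D.ψ₂) σ := by
    refine hκ ?_
    simp only [pull_pull, ← sq.bot.toFunctor.map_comp, ← hk₁, ← hk₂]
    rw [sq.bot.toFunctor.map_comp, sq.bot.toFunctor.map_comp, ← pull_pull, ← pull_pull, hσ, ht, ht]
  obtain ⟨s, hs, hsu⟩ := D.family_exists hℬ hsh σ hinv
  refine exists_lift_of_family hn hs fun a => ?_
  obtain ⟨R, hR, hc⟩ := D.cover (j.obj a)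
  refine sep_lifts hsh hR fun V g hg => ?_
  obtain ⟨c, φ, χ, hφ⟩ := hc g hg
  refine ⟨c, φ, hφ, ?_⟩
  obtain ⟨a', k, i, hi, hik⟩ := hdown φ
  obtain ⟨k', hk'⟩ := hfac (inv i ≫ χ)
  rw [← hik, sq.bot.toFunctor.map_comp, ← pull_pull, ← pull_pull, hs (j.map k), ht, ← hs (inv i ≫ χ), hsu, ← hk',
    sq.bot.toFunctor.map_comp, ← pull_pull (ψ' := sq.bot.map (j.map k')), hσ, ht]

end Restriction

end Groth.Agent.Theta10
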