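import Mathlib.AlgebraicGeometry.AffineScheme
import Mathlib.AlgebraicGeometry.Morphisms.Flat

/-!
# Functions on the union of two basic opens
-/

set_option autoImplicit false
set_option linter.style.haveILetI false

universe u

open CategoryTheory AlgebraicGeometry TopologicalSpace Opposite

namespace Groth.Agent.Theta10

variable {X : Scheme.{u}} [IsAffine X]

theorem res_basicOpen_injective (a : Γ(X, ⊤)) (ha : ∀ x, a * x = 0 → x = 0) :
    Function.Injective (X.presheaf.map (homOfLE (le_top : X.basicOpen a ≤ ⊤)).op) := by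
  letI := (X.presheaf.map (homOfLE (le_top : X.basicOpen a ≤ ⊤)).op).hom.toAlgebra
  haveI : IsLocalization.Away a Γ(X, X.basicOpen a) :=
    (isAffineOpen_top X).isLocalization_of_eq_basicOpen a (homOfLE le_top) rfl
  refine IsLocalization.injective (M := Submonoid.powers a) Γ(X, X.basicOpen a) ?_
  rintro _ ⟨n, rfl⟩
  have hreg : IsLeftRegular a := isLeftRegular_iff_right_eq_zero_of_mul.2 ha
  exact mem_nonZeroDivisors_iff.2 ⟨fun x hx => (hreg.pow n).eq_iff.1 (by simpa using hx),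
    fun x hx => (hreg.pow n).eq_iff.1 (by rw [mul_comm] at hx; simpa using hx)⟩

theorem res_injective (a : Γ(X, ⊤)) (ha : ∀ x, a * x = 0 → x = 0) {V : X.Opens} (hV : X.basicOpen a ≤ V) :
    Function.Injective (X.presheaf.map (homOfLE (le_top : V ≤ ⊤)).op) := fun x y h => by
  refine res_basicOpen_injective a ha ?_
  have e := congrArg (X.presheaf.map (homOfLE hV).op) h
  rwa [← ConcreteCategory.comp_apply, ← ConcreteCategory.comp_apply, ← Functor.map_comp] at e

theorem dvd_of_dvd_pow_mul {A : Type u} [CommRing A] {a b : A} (ha : ∀ x, a * x = 0 → x = 0)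
    (hab : ∀ x, a ∣ b * x → a ∣ x) : ∀ (n m : ℕ) (x : A), a ^ n ∣ b ^ m * x → a ^ n ∣ x := by
  have h1 : ∀ (m : ℕ) (x : A), a ∣ b ^ m * x → a ∣ x := by
    intro m
    induction m with
    | zero => simp
    | succ m ih => exact fun x h => hab x (ih (b * x) (by rwa [pow_succ, mul_assoc] at h))
  intro n m
  induction n with
  | zero => simp
  | succ n ih =>
    intro x h
    obtain ⟨y, rfl⟩ := ih x ((pow_dvd_pow a (Nat.le_succ n)).trans h)
    obtain ⟨z, hz⟩ := h
    have hreg : IsLeftRegular (a ^ n) := (isLeftRegular_iff_right_eq_zero_of_mul.2 ha).pow n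
    obtain ⟨w, rfl⟩ := h1 m y ⟨z, hreg (show a ^ n * (b ^ m * y) = a ^ n * (a * z) by linear_combination hz)⟩
    exact ⟨w, by ring⟩

theorem res_sup_bijective (a b : Γ(X, ⊤)) (ha : ∀ x, a * x = 0 → x = 0) (hb : ∀ x, b * x = 0 → x = 0)
    (hab : ∀ x, a ∣ b * x → a ∣ x) {V : X.Opens} (hV : V = X.basicOpen a ⊔ X.basicOpen b) :
    Function.Bijective (X.presheaf.map (homOfLE (le_top : V ≤ ⊤)).op) := by
  subst hV
  refine ⟨res_injective a ha le_sup_left, fun s => ?_⟩
  have loc : ∀ c : Γ(X, ⊤), ∀ t : Γ(X, X.basicOpen c), ∃ (n : ℕ) (p : Γ(X, ⊤)),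
      t * (X.presheaf.map (homOfLE (le_top : X.basicOpen c ≤ ⊤)).op c) ^ n =
        X.presheaf.map (homOfLE (le_top : X.basicOpen c ≤ ⊤)).op p := by
    intro c t
    letI := (X.presheaf.map (homOfLE (le_top : X.basicOpen c ≤ ⊤)).op).hom.toAlgebra
    haveI : IsLocalization.Away c Γ(X, X.basicOpen c) :=
      (isAffineOpen_top X).isLocalization_of_eq_basicOpen c (homOfLE le_top) rfl
    obtain ⟨n, p, h⟩ := IsLocalization.Away.surj c t
    exact ⟨n, p, h⟩
  have hu : ∀ c : Γ(X, ⊤), IsUnit (X.presheaf.map (homOfLE (le_top : X.basicOpen c ≤ ⊤)).op c) := fun c => by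
    letI := (X.presheaf.map (homOfLE (le_top : X.basicOpen c ≤ ⊤)).op).hom.toAlgebra
    haveI : IsLocalization.Away c Γ(X, X.basicOpen c) :=
      (isAffineOpen_top X).isLocalization_of_eq_basicOpen c (homOfLE le_top) rfl
    exact IsLocalization.Away.algebraMap_isUnit c
  obtain ⟨n, p, hp⟩ := loc a (X.presheaf.map (homOfLE (le_sup_left : _ ≤ X.basicOpen a ⊔ X.basicOpen b)).op s)
  obtain ⟨m, q, hq⟩ := loc b (X.presheaf.map (homOfLE (le_sup_right : _ ≤ X.basicOpen a ⊔ X.basicOpen b)).op s)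
  have hab0 : ∀ x, a * b * x = 0 → x = 0 := fun x h => hb x (ha _ (by rwa [mul_assoc] at h))
  have e1 : b ^ m * p = a ^ n * q := by
    refine res_basicOpen_injective (a * b) hab0 ?_
    have hla : X.basicOpen (a * b) ≤ X.basicOpen a := by rw [Scheme.basicOpen_mul]; exact inf_le_left
    have hlb : X.basicOpen (a * b) ≤ X.basicOpen b := by rw [Scheme.basicOpen_mul]; exact inf_le_right
    have h1 := congrArg (X.presheaf.map (homOfLE hla).op) hp
    have h2 := congrArg (X.presheaf.map (homOfLE hlb).op) hq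
    simp only [map_mul, map_pow, ← ConcreteCategory.comp_apply, ← Functor.map_comp, ← op_comp, homOfLE_comp]
      at h1 h2 ⊢
    rw [← h1, ← h2]
    ring
  obtain ⟨r, rfl⟩ : a ^ n ∣ p := dvd_of_dvd_pow_mul ha hab n m p ⟨q, e1⟩
  have hr : b ^ m * r = q := ((isLeftRegular_iff_right_eq_zero_of_mul.2 ha).pow n) (by linear_combination e1)
  refine ⟨r, X.sheaf.eq_of_locally_eq₂ (homOfLE (le_sup_left : X.basicOpen a ≤ X.basicOpen a ⊔ X.basicOpen b))
    (homOfLE (le_sup_right : X.basicOpen b ≤ X.basicOpen a ⊔ X.basicOpen b)) le_rfl _ _ ?_ ?_⟩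
  · show X.presheaf.map _ (X.presheaf.map _ r) = X.presheaf.map _ s
    rw [← ConcreteCategory.comp_apply, ← Functor.map_comp, ← op_comp, homOfLE_comp]
    refine ((hu a).pow n).mul_right_cancel ?_
    rw [hp, map_mul, map_pow, mul_comm]
  · show X.presheaf.map _ (X.presheaf.map _ r) = X.presheaf.map _ s
    rw [← ConcreteCategory.comp_apply, ← Functor.map_comp, ← op_comp, homOfLE_comp]
    refine ((hu b).pow m).mul_right_cancel ?_
    rw [hq, ← hr, map_mul, map_pow, mul_comm]

theorem ι_appTop_injective (a : Γ(X, ⊤)) (ha : ∀ x, a * x = 0 → x = 0) {U : X.Opens} (hU : X.basicOpen a ≤ U) :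
    Function.Injective U.ι.appTop := by
  rw [Scheme.Opens.ι_appTop]
  exact res_injective a ha (by rwa [U.ι_image_top])

theorem ι_appTop_bijective (a b : Γ(X, ⊤)) (ha : ∀ x, a * x = 0 → x = 0) (hb : ∀ x, b * x = 0 → x = 0)
    (hab : ∀ x, a ∣ b * x → a ∣ x) : Function.Bijective (X.basicOpen a ⊔ X.basicOpen b).ι.appTop := by
  rw [Scheme.Opens.ι_appTop]
  exact res_sup_bijective a b ha hb hab (Scheme.Opens.ι_image_top _)

theorem ι_appTop_preimage_injective {Y : Scheme.{u}} [IsAffine Y] (p : Y ⟶ X) [Flat p] (a : Γ(X, ⊤))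
    (ha : ∀ x, a * x = 0 → x = 0) {U : X.Opens} (hU : X.basicOpen a ≤ U) :
    Function.Injective (p ⁻¹ᵁ U).ι.appTop := by
  letI := p.appTop.hom.toAlgebra
  haveI : Module.Flat Γ(X, ⊤) Γ(Y, ⊤) := Scheme.Hom.flat_appTop p
  refine ι_appTop_injective (p.appTop a) (fun x hx => ?_) ?_
  · have hreg : IsSMulRegular Γ(X, ⊤) a := fun x y h => sub_eq_zero.1 (ha _ (by
      rw [mul_sub, sub_eq_zero]; exact h))
    exact (hreg.of_flat (S := Γ(Y, ⊤))) (show p.appTop a • x = p.appTop a • (0 : Γ(Y, ⊤)) by simpa using hx)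
  · rw [← Scheme.preimage_basicOpen_top]
    exact Scheme.Hom.preimage_mono _ hU

end Groth.Agent.Theta10
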