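import Groth.Agent.Theta10.Chart
import Groth.Agent.Theta10.Punctured
import Mathlib.RingTheory.MvPolynomial.Ideal

/-!
# Functions on the punctured line and on the punctured two-branched curve
-/

set_option autoImplicit false
set_option linter.style.haveILetI false

universe u

open CategoryTheory MonoidalCategory CartesianMonoidalCategory AlgebraicGeometry Opposite
open scoped TensorProduct Polynomial

namespace Groth.Agent.Theta10

variable (R : Type u) [CommRing R]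

theorem preimage_basicOpen_spec {A B : CommRingCat.{u}} (φ : A ⟶ B) (r : A) :
    Spec.map φ ⁻¹ᵁ (Spec A).basicOpen ((Scheme.ΓSpecIso A).inv r) =
      (Spec B).basicOpen ((Scheme.ΓSpecIso B).inv (φ r)) := by
  rw [Scheme.preimage_basicOpen_top]
  congr 1
  exact (congrArg (fun k => k r) (Scheme.ΓSpecIso_inv_naturality φ)).symm

/-- The pair of universal points. -/
noncomputable def uPair (B : Type u) [CommRing B] [Algebra R B] :
    CoactBr.sp R (B ⊗[R] ThetaS.Lau R) ⟶ ThetaS.Gm R ⊗ CoactBr.sp R B :=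
  lift (CoactBr.pt (Algebra.TensorProduct.includeRight : ThetaS.Lau R →ₐ[R] B ⊗[R] ThetaS.Lau R))
    (CoactBr.pt (Algebra.TensorProduct.includeLeft : B →ₐ[R] B ⊗[R] ThetaS.Lau R))

theorem isIso_uPair (B : Type u) [CommRing B] [Algebra R B] : IsIso (uPair R B) := by
  letI := @braidedAlgSpec (CommRingCat.of R)
  let il : B →ₐ[R] B ⊗[R] ThetaS.Lau R := Algebra.TensorProduct.includeLeft
  let ir : ThetaS.Lau R →ₐ[R] B ⊗[R] ThetaS.Lau R := Algebra.TensorProduct.includeRight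
  let M := Functor.LaxMonoidal.μ (algSpec (CommRingCat.of R)) (op (CommAlgCat.of R B))
    (op (CommAlgCat.of R (ThetaS.Lau R)))
  let e : CoactBr.sp R (B ⊗[R] ThetaS.Lau R) ⟶ CoactBr.sp R B ⊗ ThetaS.Gm R := lift (CoactBr.pt il) (CoactBr.pt ir)
  have h : e ≫ M = 𝟙 _ := by
    refine (CoactBr.lift_pt_pt il ir).trans ?_
    rw [Algebra.TensorProduct.lift_includeLeft_includeRight]
    exact CoactBr.pt_id
  have hM : IsIso M := (Functor.Monoidal.μIso (algSpec (CommRingCat.of R)) (op (CommAlgCat.of R B))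
    (op (CommAlgCat.of R (ThetaS.Lau R)))).isIso_hom
  have hEM : IsIso (e ≫ M) := by rw [h]; exact inferInstanceAs (IsIso (𝟙 _))
  haveI : IsIso e := @IsIso.of_isIso_comp_right _ _ _ _ _ e M hM hEM
  have : uPair R B = e ≫ (β_ _ _).hom := (lift_braiding_hom _ _).symm
  rw [this]
  exact inferInstanceAs (IsIso (e ≫ _))

/-- Invariance of a union of basic opens from the effect of the action on the universal pair of points. -/
theorem preimage_act_eq {B : Type u} [CommRing B] [Algebra R B]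
    (a : AlgGrp.Action (ThetaS.Gm R) (CoactBr.sp R B)) (φ : B →ₐ[R] B ⊗[R] ThetaS.Lau R)
    (hφ : uPair R B ≫ a.act = CoactBr.pt φ) (r₁ r₂ : B)
    (h₁ : Associated (φ r₁) (r₁ ⊗ₜ[R] 1)) (h₂ : Associated (φ r₂) (r₂ ⊗ₜ[R] 1)) :
    let U : (CoactBr.sp R B).left.Opens :=
      (Spec (CommRingCat.of B)).basicOpen ((Scheme.ΓSpecIso (CommRingCat.of B)).inv r₁) ⊔
        (Spec (CommRingCat.of B)).basicOpen ((Scheme.ΓSpecIso (CommRingCat.of B)).inv r₂)
    a.act.left ⁻¹ᵁ U = (snd (ThetaS.Gm R) (CoactBr.sp R B)).left ⁻¹ᵁ U := by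
  intro U
  haveI := isIso_uPair R B
  haveI : IsIso (uPair R B).left := inferInstanceAs (IsIso ((Over.forget _).map (uPair R B)))
  refine SetLike.coe_injective ((uPair R B).left.homeomorph.surjective.preimage_injective ?_)
  refine congrArg SetLike.coe (?_ : (uPair R B).left ⁻¹ᵁ (a.act.left ⁻¹ᵁ U) =
    (uPair R B).left ⁻¹ᵁ ((snd (ThetaS.Gm R) (CoactBr.sp R B)).left ⁻¹ᵁ U))
  rw [← Scheme.Hom.comp_preimage, ← Scheme.Hom.comp_preimage, ← Over.comp_left, ← Over.comp_left, hφ, uPair, lift_snd,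
    CoactBr.pt_left, CoactBr.pt_left]
  have key : ∀ {x y : B ⊗[R] ThetaS.Lau R}, Associated x y →
      (Spec (CommRingCat.of (B ⊗[R] ThetaS.Lau R))).basicOpen ((Scheme.ΓSpecIso (CommRingCat.of _)).inv x) =
        (Spec (CommRingCat.of (B ⊗[R] ThetaS.Lau R))).basicOpen ((Scheme.ΓSpecIso (CommRingCat.of _)).inv y) := by
    rintro x _ ⟨v, rfl⟩
    rw [map_mul, Scheme.basicOpen_mul, Scheme.basicOpen_of_isUnit _ (v.isUnit.map _), inf_eq_left.2 le_top]
  let il : B →ₐ[R] B ⊗[R] ThetaS.Lau R := Algebra.TensorProduct.includeLeft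
  have e₁ := (preimage_basicOpen_spec (CommRingCat.ofHom φ.toRingHom) r₁).trans
    ((key h₁).trans (preimage_basicOpen_spec (CommRingCat.ofHom il.toRingHom) r₁).symm)
  have e₂ := (preimage_basicOpen_spec (CommRingCat.ofHom φ.toRingHom) r₂).trans
    ((key h₂).trans (preimage_basicOpen_spec (CommRingCat.ofHom il.toRingHom) r₂).symm)
  show (Spec.map (CommRingCat.ofHom φ.toRingHom) ⁻¹ᵁ (Spec (CommRingCat.of B)).basicOpen _) ⊔
      (Spec.map (CommRingCat.ofHom φ.toRingHom) ⁻¹ᵁ (Spec (CommRingCat.of B)).basicOpen _) =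
    (Spec.map (CommRingCat.ofHom il.toRingHom) ⁻¹ᵁ (Spec (CommRingCat.of B)).basicOpen _) ⊔
      (Spec.map (CommRingCat.ofHom il.toRingHom) ⁻¹ᵁ (Spec (CommRingCat.of B)).basicOpen _)
  rw [e₁, e₂]

theorem associated_tmul_unit {B : Type u} [CommRing B] [Algebra R B] (b : B) (n : ℤ) :
    Associated (b ⊗ₜ[R] ThetaS.zPow R n) (b ⊗ₜ[R] (1 : ThetaS.Lau R)) := by
  refine ⟨⟨1 ⊗ₜ ThetaS.zPow R (-n), 1 ⊗ₜ ThetaS.zPow R n, ?_, ?_⟩, ?_⟩
  · rw [Algebra.TensorProduct.tmul_mul_tmul, _root_.one_mul, ThetaS.zPow_mul, neg_add_cancel, ThetaS.zPow_zero]; rfl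
  · rw [Algebra.TensorProduct.tmul_mul_tmul, _root_.one_mul, ThetaS.zPow_mul, add_neg_cancel, ThetaS.zPow_zero]; rfl
  · show b ⊗ₜ[R] ThetaS.zPow R n * 1 ⊗ₜ[R] ThetaS.zPow R (-n) = _
    rw [Algebra.TensorProduct.tmul_mul_tmul, _root_.mul_one, ThetaS.zPow_mul, add_neg_cancel, ThetaS.zPow_zero]

/-- The universal value of the scaling action. -/
noncomputable def lineUniv : R[X] →ₐ[R] R[X] ⊗[R] ThetaS.Lau R :=
  ThetaS.linePt (Algebra.TensorProduct.includeRight (ThetaS.zPow R 1) * (Polynomial.X ⊗ₜ[R] 1))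

theorem uPair_lineAction : uPair R R[X] ≫ (ThetaS.lineAction R).act = CoactBr.pt (lineUniv R) := by
  have h : (Algebra.TensorProduct.includeLeft : R[X] →ₐ[R] R[X] ⊗[R] ThetaS.Lau R) =
      ThetaS.linePt ((Polynomial.X : R[X]) ⊗ₜ[R] (1 : ThetaS.Lau R)) := by
    apply Polynomial.algHom_ext; simp [ThetaS.linePt]
  rw [uPair, h]
  exact ThetaS.lineAction_pt _ _

variable (ϖ : R)

/-- The punctured line. -/
noncomputable abbrev lineU : (ThetaS.Line R).left.Opens :=
  (ThetaS.Line R).left.basicOpen (ThetaS.lineFn Polynomial.X) ⊔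
    (ThetaS.Line R).left.basicOpen (ThetaS.lineFn (Polynomial.C ϖ))

theorem lineU_invariant : (ThetaS.lineAction R).act.left ⁻¹ᵁ lineU R ϖ =
    (snd (ThetaS.Gm R) (ThetaS.Line R)).left ⁻¹ᵁ lineU R ϖ := by
  refine preimage_act_eq R (ThetaS.lineAction R) (lineUniv R) (uPair_lineAction R) _ _ ?_ ?_
  · have : lineUniv R Polynomial.X = Polynomial.X ⊗ₜ[R] ThetaS.zPow R 1 := by simp [lineUniv, ThetaS.linePt]
    rw [this]; exact associated_tmul_unit R _ _
  · rw [← Polynomial.algebraMap_eq, AlgHom.commutes, Algebra.TensorProduct.algebraMap_apply]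

theorem missesOrigin_iff (A : AlgSt.QuotObj Scheme.fppfPrecoverage (ThetaS.Gm R) (ThetaS.lineAction R)) :
    ThetaS.MissesOrigin ϖ A ↔ A.φ.left ⁻¹ᵁ lineU R ϖ = ⊤ := by
  rw [ThetaS.MissesOrigin, lineU, Scheme.Hom.preimage_sup, Scheme.preimage_basicOpen_top,
    Scheme.preimage_basicOpen_top]

variable [IsDomain R]

theorem spec_mul_eq_zero {B : Type u} [CommRing B] (q : B) (hq : ∀ x, q * x = 0 → x = 0) :
    ∀ x, (Scheme.ΓSpecIso (CommRingCat.of B)).inv q * x = 0 → x = 0 := by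
  intro x h
  obtain ⟨y, rfl⟩ := (ConcreteCategory.bijective_of_isIso (Scheme.ΓSpecIso (CommRingCat.of B)).inv).2 x
  rw [hq y ((ConcreteCategory.bijective_of_isIso (Scheme.ΓSpecIso (CommRingCat.of B)).inv).1 (by
    rw [map_zero]; exact (map_mul _ q y).trans h)), map_zero]

theorem spec_dvd {B : Type u} [CommRing B] (a b : B) (hab : ∀ x, a ∣ b * x → a ∣ x) :
    ∀ x, (Scheme.ΓSpecIso (CommRingCat.of B)).inv a ∣ (Scheme.ΓSpecIso (CommRingCat.of B)).inv b * x →
      (Scheme.ΓSpecIso (CommRingCat.of B)).inv a ∣ x := by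
  intro x h
  obtain ⟨y, rfl⟩ := (ConcreteCategory.bijective_of_isIso (Scheme.ΓSpecIso (CommRingCat.of B)).inv).2 x
  refine map_dvd (Scheme.ΓSpecIso (CommRingCat.of B)).inv.hom (hab y ?_)
  have h' := map_dvd (Scheme.ΓSpecIso (CommRingCat.of B)).hom.hom h
  rw [map_mul] at h'
  simpa only [Iso.inv_hom_id_apply] using h'

theorem spec_bijective {B : Type u} [CommRing B] (a b : B) (ha : ∀ x, a * x = 0 → x = 0)
    (hb : ∀ x, b * x = 0 → x = 0) (hab : ∀ x, a ∣ b * x → a ∣ x) :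
    Function.Bijective ((Spec (CommRingCat.of B)).basicOpen ((Scheme.ΓSpecIso (CommRingCat.of B)).inv a) ⊔
      (Spec (CommRingCat.of B)).basicOpen ((Scheme.ΓSpecIso (CommRingCat.of B)).inv b)).ι.appTop :=
  ι_appTop_bijective _ _ (spec_mul_eq_zero a ha) (spec_mul_eq_zero b hb) (spec_dvd a b hab)

theorem line_bijective (hϖ : ϖ ≠ 0) : Function.Bijective (lineU R ϖ).ι.appTop :=
  spec_bijective (Polynomial.X : R[X]) (Polynomial.C ϖ)
    (fun _ h => (mul_eq_zero.1 h).resolve_left Polynomial.X_ne_zero)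
    (fun _ h => (mul_eq_zero.1 h).resolve_left (Polynomial.C_ne_zero.2 hϖ))
    fun x h => by
      rw [Polynomial.X_dvd_iff, Polynomial.coeff_C_mul, mul_eq_zero, or_iff_right hϖ, ← Polynomial.X_dvd_iff] at h
      exact h

variable (π : R)

/-- The universal value of the action on the curve. -/
noncomputable def stUniv : ThetaS.STRing R π →ₐ[R] ThetaS.STRing R π ⊗[R] ThetaS.Lau R :=
  ThetaS.stPt (ThetaS.sFn R π ⊗ₜ[R] ThetaS.zPow R 1) (ThetaS.tFn R π ⊗ₜ[R] ThetaS.zPow R (-1)) (by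
    rw [Algebra.TensorProduct.tmul_mul_tmul, ThetaS.zPow_mul, ThetaS.sFn_mul_tFn,
      Algebra.TensorProduct.algebraMap_apply, show (1 : ℤ) + -1 = 0 from rfl, ThetaS.zPow_zero])

/-- The punctured curve. -/
noncomputable abbrev stU : (ThetaS.STSch R π).left.Opens :=
  (ThetaS.STSch R π).left.basicOpen (ThetaS.stFn (ThetaS.sFn R π)) ⊔
    (ThetaS.STSch R π).left.basicOpen (ThetaS.stFn (ThetaS.tFn R π))

omit [IsDomain R] in
theorem missesNode_iff (A : AlgSt.QuotObj Scheme.fppfPrecoverage (ThetaS.Gm R) (ThetaS.stAction R π)) :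
    ThetaS.MissesNode A ↔ A.φ.left ⁻¹ᵁ stU R π = ⊤ := by
  rw [ThetaS.MissesNode, stU, Scheme.Hom.preimage_sup, Scheme.preimage_basicOpen_top,
    Scheme.preimage_basicOpen_top]

end Groth.Agent.Theta10
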