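import Groth.Prelude.Def_LiftSq
import Groth.Agent.FibBase.Basic

/-!
# Lifting squares and natural families of objects with an identification

For a faithful functor `f : 𝒳 ⥤ᵇ 𝒴` between categories fibred in groupoids, the classes of objects of `𝒳`
with a vertical identification of their image with a given object `Y` form a set `LQ f Y`, contravariant in `Y`.
Dotted arrows of a square are then the natural families of such classes extending the given one.
-/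

set_option autoImplicit false
set_option linter.style.haveILetI false

universe v₅ u₅ v₄ u₄ v₃ u₃ v₂ u₂ v u

open CategoryTheory CategoryTheory.Functor

namespace Groth.Agent.Theta10

variable {C : Type u} [Category.{v} C] {𝒳 : BasedCategory.{v₄, u₄} C} {𝒴 : BasedCategory.{v₅, u₅} C}

/-- An object over `Y`. -/
structure LiftOf (f : 𝒳 ⥤ᵇ 𝒴) (Y : 𝒴.obj) where
  /-- the object -/
  pt : 𝒳.obj
  /-- the identification -/
  ι : Y ⟶ f.obj pt
  vert : 𝒴.p.IsHomLift (𝟙 (𝒴.p.obj Y)) ι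

/-- The hypotheses on the functor. -/
structure Nice (f : 𝒳 ⥤ᵇ 𝒴) : Prop where
  fibX : FibCat.IsFibGrpd 𝒳.p
  fibY : FibCat.IsFibGrpd 𝒴.p
  faithful : f.toFunctor.Faithful

variable {f : 𝒳 ⥤ᵇ 𝒴} {Y Y' Y'' : 𝒴.obj}

namespace LiftOf

theorem base_pt (a : LiftOf f Y) : 𝒳.p.obj a.pt = 𝒴.p.obj Y :=
  (f.w_obj a.pt).symm.trans (haveI := a.vert; IsHomLift.codomain_eq 𝒴.p (𝟙 (𝒴.p.obj Y)) a.ι)

theorem isIso_ι (hn : Nice f) (a : LiftOf f Y) : IsIso a.ι :=
  haveI := hn.fibY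
  haveI := a.vert
  FibBase.isIso_of_lift (p := 𝒴.p) (𝟙 (𝒴.p.obj Y)) a.ι

/-- `m` covers `ψ`. -/
def IsMap (a' : LiftOf f Y') (a : LiftOf f Y) (ψ : Y' ⟶ Y) (m : a'.pt ⟶ a.pt) : Prop :=
  a'.ι ≫ f.map m = ψ ≫ a.ι

variable {a : LiftOf f Y} {a' : LiftOf f Y'} {a'' : LiftOf f Y''} {ψ : Y' ⟶ Y}

theorem IsMap.isHomLift {m : a'.pt ⟶ a.pt} (h : IsMap a' a ψ m) :
    𝒳.p.IsHomLift (𝒴.p.map ψ) m := by
  haveI := a'.vert
  haveI := a.vert
  rw [← f.isHomLift_iff]
  refine IsHomLift.of_fac' _ _ _ ((f.w_obj _).trans a'.base_pt) ((f.w_obj _).trans a.base_pt) ?_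
  have h' : 𝒴.p.map (a'.ι ≫ f.map m) = 𝒴.p.map (ψ ≫ a.ι) := congrArg 𝒴.p.map h
  rw [Functor.map_comp, Functor.map_comp, FibBase.map_eq_of_isHomLift_id a'.vert,
    FibBase.map_eq_of_isHomLift_id a.vert] at h'
  rw [← cancel_epi (eqToHom ((f.w_obj a'.pt).trans a'.base_pt).symm)]
  simpa using h'

theorem IsMap.unique (hn : Nice f) {m m' : a'.pt ⟶ a.pt} (h : IsMap a' a ψ m) (h' : IsMap a' a ψ m') : m = m' :=
  haveI := hn.faithful
  haveI := a'.isIso_ι hn
  f.toFunctor.map_injective ((cancel_epi a'.ι).1 (h.trans h'.symm))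

theorem isMap_id (a : LiftOf f Y) : IsMap a a (𝟙 Y) (𝟙 a.pt) :=
  (congrArg (a.ι ≫ ·) (f.toFunctor.map_id _)).trans ((Category.comp_id _).trans (Category.id_comp _).symm)

theorem IsMap.comp {ψ' : Y'' ⟶ Y'} {m : a'.pt ⟶ a.pt} {m' : a''.pt ⟶ a'.pt} (h' : IsMap a'' a' ψ' m')
    (h : IsMap a' a ψ m) : IsMap a'' a (ψ' ≫ ψ) (m' ≫ m) := by
  show a''.ι ≫ f.map (m' ≫ m) = (ψ' ≫ ψ) ≫ a.ι
  rw [f.toFunctor.map_comp, reassoc_of% h', h, Category.assoc]

theorem IsMap.isIso (hn : Nice f) {b : LiftOf f Y} {m : a.pt ⟶ b.pt} (h : IsMap a b (𝟙 Y) m) : IsIso m :=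
  haveI := hn.fibX
  haveI := h.isHomLift
  haveI : IsIso (𝒴.p.map (𝟙 Y)) := inferInstance
  FibBase.isIso_of_lift (p := 𝒳.p) (𝒴.p.map (𝟙 Y)) m

theorem IsMap.inv (hn : Nice f) {b : LiftOf f Y} {m : a.pt ⟶ b.pt} (h : IsMap a b (𝟙 Y) m) :
    haveI := h.isIso hn; IsMap b a (𝟙 Y) (CategoryTheory.inv m) := by
  haveI := h.isIso hn
  show b.ι ≫ f.map (CategoryTheory.inv m) = 𝟙 Y ≫ a.ι
  rw [f.toFunctor.map_inv, IsIso.comp_inv_eq, Category.id_comp]
  exact ((Category.id_comp _).symm.trans h.symm)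

/-- Maps over a given morphism into `a` factor uniquely. -/
theorem IsMap.exists_factor (hn : Nice f) {ψ' : Y'' ⟶ Y'} {m : a'.pt ⟶ a.pt} {m'' : a''.pt ⟶ a.pt}
    (h : IsMap a' a ψ m) (h'' : IsMap a'' a (ψ' ≫ ψ) m'') : ∃ m', IsMap a'' a' ψ' m' ∧ m' ≫ m = m'' := by
  haveI := hn.fibX
  haveI := hn.fibY
  haveI := h.isHomLift
  haveI := h''.isHomLift
  haveI := FibBase.isSC (p := 𝒳.p) (𝒴.p.map ψ) m
  let m' := IsStronglyCartesian.map 𝒳.p (𝒴.p.map ψ) m (g := 𝒴.p.map ψ') (f' := 𝒴.p.map (ψ' ≫ ψ))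
    (Functor.map_comp _ _ _) m''
  haveI hm' : 𝒳.p.IsHomLift (𝒴.p.map ψ') m' := inferInstance
  have hfac : m' ≫ m = m'' := IsStronglyCartesian.fac 𝒳.p _ _ _ _
  refine ⟨m', ?_, hfac⟩
  haveI := a'.vert
  haveI := a''.vert
  haveI := f.preserves_isHomLift (𝒴.p.map ψ) m
  haveI := f.preserves_isHomLift (𝒴.p.map ψ') m'
  haveI := FibBase.isSC (p := 𝒴.p) (𝒴.p.map ψ) (f.map m)
  haveI : 𝒴.p.IsHomLift (𝒴.p.map ψ') ψ' := IsHomLift.map 𝒴.p ψ'
  haveI h₁ : 𝒴.p.IsHomLift (𝒴.p.map ψ') (a''.ι ≫ f.map m') :=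
    IsHomLift.comp_lift_id_left' 𝒴.p (𝒴.p.obj Y'') a''.ι (𝒴.p.map ψ') (f.map m')
  haveI h₂ : 𝒴.p.IsHomLift (𝒴.p.map ψ') (ψ' ≫ a'.ι) :=
    IsHomLift.comp_lift_id_right' 𝒴.p (𝒴.p.map ψ') ψ' (𝒴.p.obj Y') a'.ι
  refine IsStronglyCartesian.ext 𝒴.p (𝒴.p.map ψ) (f.map m) (𝒴.p.map ψ') ?_
  rw [Category.assoc, ← f.toFunctor.map_comp, hfac, Category.assoc, h, ← Category.assoc]
  exact h''

theorem exists_pull (hn : Nice f) (ψ : Y' ⟶ Y) (a : LiftOf f Y) : ∃ (b : LiftOf f Y') (m : b.pt ⟶ a.pt), IsMap b a ψ m := by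
  haveI := hn.fibX
  haveI := hn.fibY
  obtain ⟨x, m, hm⟩ := FibBase.exists_lift_of_eq hn.fibX a.base_pt (𝒴.p.map ψ)
  haveI := f.preserves_isHomLift (𝒴.p.map ψ) m
  haveI := FibBase.isSC (p := 𝒴.p) (𝒴.p.map ψ) (f.map m)
  haveI := a.vert
  haveI : 𝒴.p.IsHomLift (𝒴.p.map ψ) ψ := IsHomLift.map 𝒴.p ψ
  haveI : 𝒴.p.IsHomLift (𝒴.p.map ψ) (ψ ≫ a.ι) :=
    IsHomLift.comp_lift_id_right' 𝒴.p (𝒴.p.map ψ) ψ (𝒴.p.obj Y) a.ι
  let i := IsStronglyCartesian.map 𝒴.p (𝒴.p.map ψ) (f.map m) (g := 𝟙 (𝒴.p.obj Y')) (f' := 𝒴.p.map ψ)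
    (Category.id_comp _).symm (ψ ≫ a.ι)
  exact ⟨⟨x, i, inferInstance⟩, m,
    IsStronglyCartesian.fac 𝒴.p (𝒴.p.map ψ) (f.map m) (Category.id_comp _).symm (ψ ≫ a.ι)⟩

end LiftOf

open LiftOf

/-- Two objects over `Y` are the same when a morphism covers the identity. -/
def Rel (hn : Nice f) (Y : 𝒴.obj) : Setoid (LiftOf f Y) where
  r a b := ∃ m, IsMap a b (𝟙 Y) m
  iseqv :=
    { refl := fun a => ⟨_, isMap_id a⟩
      symm := fun {_ _} h => ⟨_, h.choose_spec.inv hn⟩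
      trans := fun {a b c} h h' => by
        refine ⟨h.choose ≫ h'.choose, ?_⟩
        simpa using h.choose_spec.comp h'.choose_spec }

/-- Classes of objects over `Y`. -/
def LQ (hn : Nice f) (Y : 𝒴.obj) : Type (max u₄ v₅) := Quotient (Rel hn Y)

variable (hn : Nice f)

/-- The class of an object. -/
def LQ.mk (a : LiftOf f Y) : LQ hn Y := Quotient.mk (Rel hn Y) a

theorem LQ.mk_surjective : Function.Surjective (LQ.mk hn (Y := Y)) := Quotient.mk_surjective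

/-- Pullback of classes. -/
noncomputable def pull (ψ : Y' ⟶ Y) : LQ hn Y → LQ hn Y' :=
  Quotient.lift (fun a => LQ.mk hn (exists_pull hn ψ a).choose) (by
    intro a b ⟨m, hm⟩
    obtain ⟨ma, ha⟩ := (exists_pull hn ψ a).choose_spec
    obtain ⟨mb, hb⟩ := (exists_pull hn ψ b).choose_spec
    have h : IsMap _ b (𝟙 Y' ≫ ψ) (ma ≫ m) := by simpa using ha.comp hm
    obtain ⟨m', hm', -⟩ := hb.exists_factor hn h
    exact Quotient.sound ⟨m', hm'⟩)

theorem pull_eq {ψ : Y' ⟶ Y} {a' : LiftOf f Y'} {a : LiftOf f Y} {m : a'.pt ⟶ a.pt} (h : IsMap a' a ψ m) :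
    pull hn ψ (LQ.mk hn a) = LQ.mk hn a' := by
  obtain ⟨ma, ha⟩ := (exists_pull hn ψ a).choose_spec
  have h' : IsMap a' a (𝟙 Y' ≫ ψ) m := by simpa using h
  obtain ⟨m', hm', -⟩ := ha.exists_factor hn h'
  exact (show LQ.mk hn a' = _ from Quotient.sound ⟨m', hm'⟩).symm

theorem exists_map_of_pull_eq {ψ : Y' ⟶ Y} {a' : LiftOf f Y'} {a : LiftOf f Y}
    (h : pull hn ψ (LQ.mk hn a) = LQ.mk hn a') : ∃ m, IsMap a' a ψ m := by
  obtain ⟨b, mb, hb⟩ := exists_pull hn ψ a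
  rw [pull_eq hn hb] at h
  obtain ⟨m, hm⟩ := Quotient.exact h.symm
  exact ⟨m ≫ mb, by simpa using hm.comp hb⟩

@[simp]
theorem pull_id (σ : LQ hn Y) : pull hn (𝟙 Y) σ = σ := by
  obtain ⟨a, rfl⟩ := LQ.mk_surjective hn σ
  exact pull_eq hn (isMap_id a)

@[simp]
theorem pull_pull (ψ' : Y'' ⟶ Y') (ψ : Y' ⟶ Y) (σ : LQ hn Y) :
    pull hn ψ' (pull hn ψ σ) = pull hn (ψ' ≫ ψ) σ := by
  obtain ⟨a, rfl⟩ := LQ.mk_surjective hn σ
  obtain ⟨b, mb, hb⟩ := exists_pull hn ψ a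
  obtain ⟨c, mc, hc⟩ := exists_pull hn ψ' b
  rw [pull_eq hn hb, pull_eq hn hc, pull_eq hn (hc.comp hb)]

theorem pull_injective_of_isIso (ψ : Y' ⟶ Y) [IsIso ψ] : Function.Injective (pull hn ψ) := fun σ τ h => by
  simpa using congrArg (pull hn (CategoryTheory.inv ψ)) h

theorem pull_surjective_of_isIso (ψ : Y' ⟶ Y) [IsIso ψ] : Function.Surjective (pull hn ψ) := fun σ =>
  ⟨pull hn (CategoryTheory.inv ψ) σ, by simp⟩

section Sections

variable {𝒜 : BasedCategory.{v₂, u₂} C} {ℬ : BasedCategory.{v₃, u₃} C}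

/-- Natural families of classes over a functor into `𝒴`. -/
def IsFamily (hn : Nice f) (F : ℬ ⥤ᵇ 𝒴) (s : ∀ b, LQ hn (F.obj b)) : Prop :=
  ∀ ⦃b' b : ℬ.obj⦄ (φ : b' ⟶ b), pull hn (F.map φ) (s b) = s b'

variable {j : 𝒜 ⥤ᵇ ℬ} (sq : LiftSq.Sq j f)

/-- The class given by the top of a square. -/
noncomputable def topClass (a : 𝒜.obj) : LQ hn (sq.bot.obj (j.obj a)) :=
  LQ.mk hn ⟨sq.top.obj a, sq.iso.hom.toNatTrans.app a,
    BasedNatTrans.isHomLift sq.iso.hom ((sq.bot.w_obj _).trans (j.w_obj a)).symm⟩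

theorem isFamily_topClass : IsFamily hn (BasedFunctor.comp j sq.bot) (topClass hn sq) := fun _ _ φ =>
  pull_eq hn (ψ := (BasedFunctor.comp j sq.bot).map φ) (m := sq.top.map φ)
    (sq.iso.hom.toNatTrans.naturality φ).symm

variable {sq}

/-- The object of a dotted arrow. -/
def Sq.obj (d : sq.Lift) (b : ℬ.obj) : LiftOf f (sq.bot.obj b) :=
  ⟨d.fn.obj b, d.isoBot.hom.toNatTrans.app b, BasedNatTrans.isHomLift d.isoBot.hom (sq.bot.w_obj b).symm⟩

theorem isFamily_obj (d : sq.Lift) : IsFamily hn sq.bot (fun b => LQ.mk hn (Sq.obj d b)) := fun _ _ φ =>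
  pull_eq hn (m := d.fn.map φ) (d.isoBot.hom.toNatTrans.naturality φ).symm

theorem obj_restrict (d : sq.Lift) (a : 𝒜.obj) : LQ.mk hn (Sq.obj d (j.obj a)) = topClass hn sq a := by
  refine Quotient.sound ⟨d.isoTop.hom.toNatTrans.app a, ?_⟩
  have := congrArg (fun t : BasedNatTrans _ _ => t.toNatTrans.app a) d.w
  exact this.trans (Category.id_comp _).symm

theorem exists_lift_of_family {s : ∀ b, LQ hn (sq.bot.obj b)} (hs : IsFamily hn sq.bot s)
    (hres : ∀ a, s (j.obj a) = topClass hn sq a) : sq.HasLift := by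
  choose r hr using fun b => LQ.mk_surjective hn (s b)
  have hm : ∀ {b' b : ℬ.obj} (φ : b' ⟶ b), ∃ m, IsMap (r b') (r b) (sq.bot.map φ) m := fun {b' b} φ =>
    exists_map_of_pull_eq hn (by rw [hr, hr]; exact hs φ)
  choose M hM using @hm
  have hbase : ∀ b, 𝒳.p.obj (r b).pt = ℬ.p.obj b := fun b => (r b).base_pt.trans (sq.bot.w_obj b)
  let F : ℬ.obj ⥤ 𝒳.obj :=
    { obj := fun b => (r b).pt
      map := fun φ => M φ
      map_id := fun b => (hM (𝟙 b)).unique hn (by rw [sq.bot.toFunctor.map_id]; exact isMap_id _)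
      map_comp := fun φ φ' => (hM (φ ≫ φ')).unique hn (by rw [sq.bot.toFunctor.map_comp]; exact (hM φ).comp (hM φ')) }
  let fn : ℬ ⥤ᵇ 𝒳 :=
    { toFunctor := F
      w := by
        refine Functor.ext hbase fun b' b φ => ?_
        haveI := (hM φ).isHomLift
        show 𝒳.p.map (M φ) = _
        rw [IsHomLift.fac' 𝒳.p (𝒴.p.map (sq.bot.map φ)) (M φ)]
        haveI : ℬ.p.IsHomLift (ℬ.p.map φ) φ := IsHomLift.map ℬ.p φ
        haveI := sq.bot.preserves_isHomLift (ℬ.p.map φ) φ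
        have e := IsHomLift.fac' 𝒴.p (ℬ.p.map φ) (sq.bot.map φ)
        simp [e] }
  let top' : ∀ a, LiftOf f (sq.bot.obj (j.obj a)) := fun a =>
    ⟨sq.top.obj a, sq.iso.hom.toNatTrans.app a,
      BasedNatTrans.isHomLift sq.iso.hom ((sq.bot.w_obj _).trans (j.w_obj a)).symm⟩
  have ht : ∀ a, ∃ m, IsMap (r (j.obj a)) (top' a) (𝟙 _) m := fun a =>
    Quotient.exact ((hr _).trans (hres a))
  choose T hT using ht
  have hTi : ∀ a, IsIso (T a) := fun a => (hT a).isIso hn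
  let αT : BasedFunctor.comp j fn ⟶ sq.top :=
    { app := T
      naturality := fun a' a φ => by
        have h1 := (hM (j.map φ)).comp (hT a)
        have h3 : IsMap (top' a') (top' a) (sq.bot.map (j.map φ)) (sq.top.map φ) :=
          (sq.iso.hom.toNatTrans.naturality φ).symm
        have h2 := (hT a').comp h3
        rw [Category.comp_id] at h1
        rw [Category.id_comp] at h2
        exact h1.unique hn h2
      isHomLift' := fun a => by
        haveI := (hT a).isHomLift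
        refine FibBase.isHomLift_id_congr ((sq.bot.w_obj _).trans (j.w_obj a)) (S := 𝒴.p.obj (sq.bot.obj (j.obj a))) ?_
        rw [← 𝒴.p.map_id]
        exact (hT a).isHomLift }
  have hri : ∀ b, IsIso (r b).ι := fun b => (r b).isIso_ι hn
  let αB : sq.bot ⟶ BasedFunctor.comp fn f :=
    { app := fun b => (r b).ι
      naturality := fun b' b φ => (hM φ).symm
      isHomLift' := fun b => FibBase.isHomLift_id_congr (sq.bot.w_obj b) (r b).vert }
  refine ⟨⟨fn, BasedNatIso.mkNatIso (NatIso.ofComponents (fun a => @asIso _ _ _ _ (T a) (hTi a))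
      (fun φ => αT.toNatTrans.naturality φ)) (fun a => αT.isHomLift' a),
    BasedNatIso.mkNatIso (NatIso.ofComponents (fun b => @asIso _ _ _ _ (r b).ι (hri b))
      (fun φ => αB.toNatTrans.naturality φ)) (fun b => αB.isHomLift' b), ?_⟩⟩
  apply BasedNatTrans.homCategory.ext
  ext a
  exact (hT a).trans (Category.id_comp _)

theorem uniqLift_of_families (H : ∀ s t : ∀ b, LQ hn (sq.bot.obj b), IsFamily hn sq.bot s → IsFamily hn sq.bot t →
    (∀ a, s (j.obj a) = t (j.obj a)) → s = t) : sq.UniqLift := by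
  intro d d'
  have he : ∀ b, LQ.mk hn (Sq.obj d b) = LQ.mk hn (Sq.obj d' b) := congrFun (H _ _ (isFamily_obj hn d)
    (isFamily_obj hn d') fun a => (obj_restrict hn d a).trans (obj_restrict hn d' a).symm)
  choose m hm using fun b => Quotient.exact (he b)
  let η : d.fn ⟶ d'.fn :=
    { app := m
      naturality := fun b' b φ => by
        have h0 : IsMap (Sq.obj d b') (Sq.obj d b) (sq.bot.map φ) (d.fn.map φ) :=
          (d.isoBot.hom.toNatTrans.naturality φ).symm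
        have h0' : IsMap (Sq.obj d' b') (Sq.obj d' b) (sq.bot.map φ) (d'.fn.map φ) :=
          (d'.isoBot.hom.toNatTrans.naturality φ).symm
        have h1 := h0.comp (hm b)
        have h2 := (hm b').comp h0'
        rw [Category.comp_id] at h1
        rw [Category.id_comp] at h2
        exact h1.unique hn h2
      isHomLift' := fun b => by
        haveI := (hm b).isHomLift
        refine FibBase.isHomLift_id_congr (sq.bot.w_obj b) (S := 𝒴.p.obj (sq.bot.obj b)) ?_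
        rw [← 𝒴.p.map_id]
        exact (hm b).isHomLift }
  refine ⟨{ default := ⟨η, ?_, ?_⟩, uniq := fun θ => ?_ }⟩
  · apply BasedNatTrans.homCategory.ext
    ext a
    let top' : LiftOf f (sq.bot.obj (j.obj a)) :=
      ⟨sq.top.obj a, sq.iso.hom.toNatTrans.app a,
        BasedNatTrans.isHomLift sq.iso.hom ((sq.bot.w_obj _).trans (j.w_obj a)).symm⟩
    have h1 : IsMap (Sq.obj d (j.obj a)) top' (𝟙 _) (d.isoTop.hom.toNatTrans.app a) :=
      (congrArg (fun t : BasedNatTrans _ _ => t.toNatTrans.app a) d.w).trans (Category.id_comp _).symm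
    have h2 : IsMap (Sq.obj d' (j.obj a)) top' (𝟙 _) (d'.isoTop.hom.toNatTrans.app a) :=
      (congrArg (fun t : BasedNatTrans _ _ => t.toNatTrans.app a) d'.w).trans (Category.id_comp _).symm
    have h3 := (hm (j.obj a)).comp h2
    rw [Category.id_comp] at h3
    exact h3.unique hn h1
  · apply BasedNatTrans.homCategory.ext
    ext b
    exact (hm b).trans (Category.id_comp _)
  · apply LiftSq.Sq.Lift.hom_ext
    apply BasedNatTrans.homCategory.ext
    ext b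
    have h1 : IsMap (Sq.obj d b) (Sq.obj d' b) (𝟙 _) (θ.hom.toNatTrans.app b) :=
      (congrArg (fun t : BasedNatTrans _ _ => t.toNatTrans.app b) θ.w_bot).trans (Category.id_comp _).symm
    exact h1.unique hn (hm b)

end Sections

end Groth.Agent.Theta10
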