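import Groth.Agent.Theta10.Lifting
import Groth.Agent.AlgStLib.Yoneda

/-!
# The classes over an object as sections of the representing space
-/

set_option autoImplicit false
set_option linter.style.haveILetI false
set_option backward.isDefEq.respectTransparency false
set_option backward.isDefEq.respectTransparency.types false

universe u

open CategoryTheory CategoryTheory.Functor AlgebraicGeometry Opposite

namespace Groth.Agent.Theta10

open Groth.Agent.FibBase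

variable {S : Scheme.{u}} {𝒳 𝒴 : AlgSt.Cat S} {f : 𝒳 ⥤ᵇ 𝒴}

/-- A description of the classes over the objects lying over `Y` by the sections of a sheaf over its base. -/
structure RepAt (hn : Nice f) (P : MorphismProperty (AlgSp.Sp S)) (Y : 𝒴.obj) where
  /-- the sheaf -/
  F : AlgSp.Space S
  /-- its map to the base of `Y` -/
  π : F.obj ⟶ (AlgSp.yon S).obj (𝒴.p.obj Y)
  prop : P π
  /-- sections and classes -/
  Φ : ∀ {Y' : 𝒴.obj} (ψ : Y' ⟶ Y),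
    {x : F.obj.obj.obj (op (𝒴.p.obj Y')) // π.hom.app _ x = ⟨𝒴.p.map ψ⟩} ≃ LQ hn Y'
  nat : ∀ {Y'' Y' : 𝒴.obj} (m : Y'' ⟶ Y') (ψ : Y' ⟶ Y)
    (x : {x : F.obj.obj.obj (op (𝒴.p.obj Y')) // π.hom.app _ x = ⟨𝒴.p.map ψ⟩})
    (x' : {x : F.obj.obj.obj (op (𝒴.p.obj Y'')) // π.hom.app _ x = ⟨𝒴.p.map (m ≫ ψ)⟩}),
    F.obj.obj.map (𝒴.p.map m).op x.1 = x'.1 → Φ (m ≫ ψ) x' = pull hn m (Φ ψ x)

variable (hn : Nice f) {U : Over S} {G : FibCat.overCat U ⥤ᵇ 𝒴} {F : AlgSp.Space S}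
  (e : AlgSt.ofSp F.obj ⥤ᵇ FibCat.fp G f)

/-- The class on `G V` given by an object of the fibre product over `Vo` and a morphism `V ⟶ Vo`. -/
noncomputable def fpClass {V : Over U} (o : (FibCat.fp G f).obj) (θ : V ⟶ o.obj.fst) : LQ hn (G.obj V) :=
  pull hn (G.map θ) (LQ.mk hn ⟨o.obj.snd, o.obj.iso.hom,
    isHomLift_id_congr (G.w_obj o.obj.fst).symm o.property⟩)

theorem fpClass_map {V : Over U} {o o' : (FibCat.fp G f).obj} (k : o ⟶ o') (θ : V ⟶ o.obj.fst) :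
    fpClass hn o' (θ ≫ k.hom.fst) = fpClass hn o θ := by
  rw [fpClass, G.toFunctor.map_comp, ← pull_pull, fpClass]
  exact congrArg _ (pull_eq hn (m := k.hom.snd) k.hom.w.symm)

theorem pull_fpClass {V V' : Over U} (σ : V' ⟶ V) (o : (FibCat.fp G f).obj) (θ : V ⟶ o.obj.fst) :
    pull hn (G.map σ) (fpClass hn o θ) = fpClass hn o (σ ≫ θ) := by
  rw [fpClass, pull_pull, ← G.toFunctor.map_comp, fpClass]

/-- The morphism `V ⟶ Vo` to the first component of the image of a section over `V`. -/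
noncomputable def secθ (V : Over U)
    (x : {x : F.obj.obj.obj (op V.left) //
      (AlgSt.spMapOfOver (BasedFunctor.comp e (FibCat.fpFst G f))).hom.app _ x = ⟨V.hom⟩}) :
    V ⟶ (e.obj ⟨V.left, x.1⟩).obj.fst :=
  Over.homMk (eqToHom (e.w_obj ⟨V.left, x.1⟩).symm) (congrArg ULift.down x.2)

/-- The class of a section. -/
noncomputable def secClass (V : Over U)
    (x : {x : F.obj.obj.obj (op V.left) //
      (AlgSt.spMapOfOver (BasedFunctor.comp e (FibCat.fpFst G f))).hom.app _ x = ⟨V.hom⟩}) : LQ hn (G.obj V) :=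
  fpClass hn (e.obj ⟨V.left, x.1⟩) (secθ e V x)

theorem map_left_eq {a a' : (AlgSt.ofSp F.obj).obj} (k : a ⟶ a') :
    (e.map k).hom.fst.left = eqToHom (e.w_obj a) ≫ k.hom ≫ eqToHom (e.w_obj a').symm :=
  haveI : (AlgSt.ofSp F.obj).p.IsHomLift ((AlgSt.ofSp F.obj).p.map k) k := IsHomLift.map _ k
  haveI := e.preserves_isHomLift ((AlgSt.ofSp F.obj).p.map k) k
  IsHomLift.fac' (FibCat.fp G f).p ((AlgSt.ofSp F.obj).p.map k) (e.map k)

theorem secClass_natural {V V' : Over U} (σ : V' ⟶ V)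
    (x : {x : F.obj.obj.obj (op V.left) //
      (AlgSt.spMapOfOver (BasedFunctor.comp e (FibCat.fpFst G f))).hom.app _ x = ⟨V.hom⟩})
    (x' : {x : F.obj.obj.obj (op V'.left) //
      (AlgSt.spMapOfOver (BasedFunctor.comp e (FibCat.fpFst G f))).hom.app _ x = ⟨V'.hom⟩})
    (h : F.obj.obj.map σ.left.op x.1 = x'.1) : secClass hn e V' x' = pull hn (G.map σ) (secClass hn e V x) := by
  let k : (⟨V'.left, x'.1⟩ : (AlgSt.ofSp F.obj).obj) ⟶ ⟨V.left, x.1⟩ := ⟨σ.left, h⟩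
  rw [secClass, secClass, pull_fpClass, ← fpClass_map hn (e.map k)]
  congr 1
  apply Over.OverMorphism.ext
  simp [secθ, map_left_eq e k, k]

theorem secClass_bijective (he : FibCat.IsEquivOver e) (V : Over U) : Function.Bijective (secClass hn e V) := by
  haveI := isEquivalence_of_isEquivOver he
  constructor
  · intro x x' h
    let τ : (e.obj ⟨V.left, x.1⟩).obj.fst ⟶ (e.obj ⟨V.left, x'.1⟩).obj.fst :=
      Over.homMk (eqToHom ((e.w_obj ⟨V.left, x.1⟩).trans (e.w_obj ⟨V.left, x'.1⟩).symm)) (by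
        have h1 : eqToHom (e.w_obj ⟨V.left, x.1⟩).symm ≫ (e.obj ⟨V.left, x.1⟩).obj.fst.hom = V.hom :=
          congrArg ULift.down x.2
        have h2 : eqToHom (e.w_obj ⟨V.left, x'.1⟩).symm ≫ (e.obj ⟨V.left, x'.1⟩).obj.fst.hom = V.hom :=
          congrArg ULift.down x'.2
        rw [← cancel_epi (eqToHom (e.w_obj ⟨V.left, x.1⟩).symm), eqToHom_trans_assoc]
        exact h2.trans h1.symm)
    have hθ : secθ e V x ≫ τ = secθ e V x' := by
      apply Over.OverMorphism.ext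
      simp [secθ, τ]
    haveI : IsIso (secθ e V x).left := inferInstanceAs (IsIso (eqToHom (e.w_obj ⟨V.left, x.1⟩).symm))
    haveI : IsIso ((Over.forget U).map (secθ e V x)) :=
      inferInstanceAs (IsIso (eqToHom (e.w_obj ⟨V.left, x.1⟩).symm))
    haveI : IsIso (secθ e V x) := isIso_of_reflects_iso _ (Over.forget U)
    haveI : IsIso (G.map (secθ e V x)) := inferInstanceAs (IsIso (G.toFunctor.map _))
    rw [secClass, secClass, ← hθ, fpClass, fpClass, G.toFunctor.map_comp, ← pull_pull] at h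
    obtain ⟨m, hm⟩ := exists_map_of_pull_eq hn (pull_injective_of_isIso hn _ h).symm
    let k : e.obj ⟨V.left, x.1⟩ ⟶ e.obj ⟨V.left, x'.1⟩ := ObjectProperty.homMk ⟨τ, m, hm.symm⟩
    obtain ⟨ψ, hψ⟩ := e.toFunctor.map_surjective k
    have hl := map_left_eq e ψ
    rw [hψ] at hl
    have hid : ψ.hom = 𝟙 V.left := by
      simp [k, τ] at hl
      rw [← cancel_epi (eqToHom (e.w_obj ⟨V.left, x.1⟩)), ← cancel_mono (eqToHom (e.w_obj ⟨V.left, x'.1⟩).symm)]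
      simpa using hl.symm
    have hx := ψ.map_sec
    rw [hid] at hx
    simp at hx
    exact Subtype.ext hx.symm
  · intro σ
    obtain ⟨a, rfl⟩ := LQ.mk_surjective hn σ
    haveI := a.isIso_ι hn
    let o₀ : (FibCat.fp G f).obj :=
      ⟨⟨V, a.pt, asIso a.ι⟩, isHomLift_id_congr (G.w_obj V) a.vert⟩
    obtain ⟨e', -, ⟨ε⟩⟩ := he
    suffices key : ∀ (w : (AlgSt.ofSp F.obj).obj) (_ : w.base = V.left) (i : e.obj w ≅ o₀),
        (FibCat.fp G f).p.IsHomLift (𝟙 V.left) i.hom → ∃ x, secClass hn e V x = LQ.mk hn a from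
      key (e'.obj o₀) (e'.w_obj o₀) (isoApp ε o₀) (isoApp_lift ε rfl)
    rintro ⟨B, x⟩ hB i hi
    dsimp only at hB
    subst hB
    have hl : i.hom.hom.fst.left = eqToHom (e.w_obj ⟨V.left, x⟩) := by
      have := IsHomLift.fac' (FibCat.fp G f).p (𝟙 V.left) i.hom
      simp at this
      exact this
    have hx : (AlgSt.spMapOfOver (BasedFunctor.comp e (FibCat.fpFst G f))).hom.app _ x = ⟨V.hom⟩ := by
      apply ULift.ext
      show eqToHom _ ≫ (e.obj ⟨V.left, x⟩).obj.fst.hom = V.hom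
      rw [← Over.w i.hom.hom.fst, ← Category.assoc, hl, eqToHom_trans]
      exact (congrArg (· ≫ V.hom) (eqToHom_refl _ rfl)).trans (Category.id_comp _)
    refine ⟨⟨x, hx⟩, ?_⟩
    rw [secClass, ← fpClass_map hn i.hom]
    have : secθ e V ⟨x, hx⟩ ≫ i.hom.hom.fst = 𝟙 V := by
      apply Over.OverMorphism.ext
      simp [secθ, hl]
    rw [this]
    show pull hn (G.map (𝟙 V)) _ = _
    rw [G.toFunctor.map_id]
    exact pull_id hn _

theorem exists_repAt {P : MorphismProperty (AlgSp.Sp S)} (hf : AlgSt.RepByAlgSpWith P f) (Y : 𝒴.obj) :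
    Nonempty (RepAt hn P Y) := by
  haveI := hn.fibY
  obtain ⟨G, e₀, he₀⟩ := AlgStLib.exists_overCat_obj hn.fibY (U := 𝒴.p.obj Y) Y rfl
  obtain ⟨F, e, he, hP⟩ := hf _ G
  have hi : ∀ {Y' : 𝒴.obj} (ψ : Y' ⟶ Y), ∃ i : G.obj (Over.mk (𝒴.p.map ψ)) ≅ Y',
      𝒴.p.IsHomLift (𝟙 (𝒴.p.obj Y')) i.hom ∧ G.map (toId (Over.mk (𝒴.p.map ψ))) ≫ e₀.hom = i.hom ≫ ψ := fun {Y'} ψ =>
    haveI : 𝒴.p.IsHomLift (Over.mk (𝒴.p.map ψ)).hom ψ := IsHomLift.map 𝒴.p ψ
    AlgStLib.exists_point_of_hom hn.fibY G e₀ he₀ (Over.mk (𝒴.p.map ψ)) ψ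
  choose i hil hiw using @hi
  refine ⟨{ F := F, π := _, prop := hP
            Φ := fun {Y'} ψ => (Equiv.ofBijective _ (secClass_bijective hn e he (Over.mk (𝒴.p.map ψ)))).trans
              (Equiv.ofBijective (pull hn (i ψ).inv)
                ⟨pull_injective_of_isIso hn _, pull_surjective_of_isIso hn _⟩)
            nat := ?_ }⟩
  intro Y'' Y' m ψ x x' h
  let σ : Over.mk (𝒴.p.map (m ≫ ψ)) ⟶ Over.mk (𝒴.p.map ψ) := Over.homMk (𝒴.p.map m) (𝒴.p.map_comp m ψ).symm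
  show pull hn (i (m ≫ ψ)).inv (secClass hn e _ x') = pull hn m (pull hn (i ψ).inv (secClass hn e _ x))
  rw [secClass_natural hn e σ x x' h, pull_pull, pull_pull]
  congr 1
  haveI := hil ψ
  haveI := hil (m ≫ ψ)
  haveI : 𝒴.p.IsHomLift (𝒴.p.map m) (G.map σ) := overMap_isHomLift G σ
  haveI : 𝒴.p.IsHomLift (𝒴.p.map ψ) (G.map (toId (Over.mk (𝒴.p.map ψ)))) :=
    overMap_isHomLift G (toId (Over.mk (𝒴.p.map ψ)))
  haveI : 𝒴.p.IsHomLift (𝒴.p.map m) m := IsHomLift.map 𝒴.p m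
  haveI : 𝒴.p.IsHomLift (𝟙 (𝒴.p.obj Y')) (i ψ).inv := IsHomLift.lift_id_inv 𝒴.p _ _
  haveI : 𝒴.p.IsHomLift (𝟙 (𝒴.p.obj Y'')) (i (m ≫ ψ)).inv := IsHomLift.lift_id_inv 𝒴.p _ _
  haveI := he₀
  haveI : 𝒴.p.IsHomLift (𝒴.p.map ψ) (G.map (toId (Over.mk (𝒴.p.map ψ))) ≫ e₀.hom) :=
    IsHomLift.comp_lift_id_right' 𝒴.p (𝒴.p.map ψ) _ (𝒴.p.obj Y) e₀.hom
  haveI := FibBase.isSC (p := 𝒴.p) (𝒴.p.map ψ) (G.map (toId (Over.mk (𝒴.p.map ψ))) ≫ e₀.hom)
  haveI : 𝒴.p.IsHomLift (𝒴.p.map m) ((i (m ≫ ψ)).inv ≫ G.map σ) :=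
    IsHomLift.comp_lift_id_left' 𝒴.p (𝒴.p.obj Y'') _ (𝒴.p.map m) _
  haveI : 𝒴.p.IsHomLift (𝒴.p.map m) (m ≫ (i ψ).inv) :=
    IsHomLift.comp_lift_id_right' 𝒴.p (𝒴.p.map m) m (𝒴.p.obj Y') _
  refine IsStronglyCartesian.ext 𝒴.p (𝒴.p.map ψ) (G.map (toId (Over.mk (𝒴.p.map ψ))) ≫ e₀.hom) (𝒴.p.map m) ?_
  have hσ : σ ≫ toId (Over.mk (𝒴.p.map ψ)) = toId (Over.mk (𝒴.p.map (m ≫ ψ))) :=
    Over.OverMorphism.ext (Over.w σ)
  rw [Category.assoc, ← Category.assoc (G.map σ), ← G.toFunctor.map_comp, hσ, hiw, hiw, Category.assoc]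
  simp

end Groth.Agent.Theta10
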