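import Groth.Agent.Theta10.Rep

/-!
# Classes form a sheaf; extension of families along charts
-/

set_option autoImplicit false
set_option linter.style.haveILetI false
set_option backward.isDefEq.respectTransparency false
set_option backward.isDefEq.respectTransparency.types false

universe u

open CategoryTheory CategoryTheory.Functor AlgebraicGeometry Opposite

namespace Groth.Agent.Theta10

open Groth.Agent.FibBase

local notation "J₀" => QuotSh.J Scheme.fppfPrecoverage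

variable {S : Scheme.{u}} {𝒳 𝒴 : AlgSt.Cat S} {f : 𝒳 ⥤ᵇ 𝒴}

/-- Unique gluing of classes along covering sieves. -/
structure IsSheafAt (hn : Nice f) (Y : 𝒴.obj) : Prop where
  sep : ∀ R ∈ J₀ S (𝒴.p.obj Y), ∀ s t : LQ hn Y,
    (∀ ⦃Y' : 𝒴.obj⦄ (ψ : Y' ⟶ Y), R (𝒴.p.map ψ) → pull hn ψ s = pull hn ψ t) → s = t
  glue : ∀ R ∈ J₀ S (𝒴.p.obj Y), ∀ σ : ∀ ⦃Y' : 𝒴.obj⦄ (ψ : Y' ⟶ Y), R (𝒴.p.map ψ) → LQ hn Y',
    (∀ ⦃Y'' Y' : 𝒴.obj⦄ (m : Y'' ⟶ Y') (ψ : Y' ⟶ Y) (h : R (𝒴.p.map ψ)) (h' : R (𝒴.p.map (m ≫ ψ))),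
      pull hn m (σ ψ h) = σ (m ≫ ψ) h') →
    ∃ s : LQ hn Y, ∀ ⦃Y' : 𝒴.obj⦄ (ψ : Y' ⟶ Y) (h : R (𝒴.p.map ψ)), pull hn ψ s = σ ψ h

namespace RepAt

variable {hn : Nice f} {P : MorphismProperty (AlgSp.Sp S)} {Y : 𝒴.obj} (D : RepAt hn P Y)

/-- The section of a class. -/
def val {Y' : 𝒴.obj} (ψ : Y' ⟶ Y) (s : LQ hn Y') : D.F.obj.obj.obj (op (𝒴.p.obj Y')) := ((D.Φ ψ).symm s).1

theorem π_val {Y' : 𝒴.obj} (ψ : Y' ⟶ Y) (s : LQ hn Y') : D.π.hom.app _ (D.val ψ s) = ⟨𝒴.p.map ψ⟩ :=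
  ((D.Φ ψ).symm s).2

theorem π_map {T T' : Over S} (g : T' ⟶ T) (x : D.F.obj.obj.obj (op T)) :
    D.π.hom.app _ (D.F.obj.obj.map g.op x) = ⟨g ≫ (D.π.hom.app _ x).down⟩ :=
  NatTrans.naturality_apply D.π.hom g.op x

theorem val_pull {Y'' Y' : 𝒴.obj} (m : Y'' ⟶ Y') (ψ : Y' ⟶ Y) (s : LQ hn Y') :
    D.val (m ≫ ψ) (pull hn m s) = D.F.obj.obj.map (𝒴.p.map m).op (D.val ψ s) := by
  let x' : {x : D.F.obj.obj.obj (op (𝒴.p.obj Y'')) // D.π.hom.app _ x = ⟨𝒴.p.map (m ≫ ψ)⟩} :=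
    ⟨D.F.obj.obj.map (𝒴.p.map m).op (D.val ψ s), by rw [π_map, π_val, 𝒴.p.map_comp]⟩
  have h := D.nat m ψ ((D.Φ ψ).symm s) x' rfl
  rw [Equiv.apply_symm_apply] at h
  show ((D.Φ (m ≫ ψ)).symm (pull hn m s)).1 = x'.1
  rw [← h, Equiv.symm_apply_apply]

theorem val_injective {Y' : 𝒴.obj} (ψ : Y' ⟶ Y) : Function.Injective (D.val ψ) :=
  Subtype.val_injective.comp (D.Φ ψ).symm.injective

theorem val_surjective {Y' : 𝒴.obj} (ψ : Y' ⟶ Y) {x : D.F.obj.obj.obj (op (𝒴.p.obj Y'))}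
    (hx : D.π.hom.app _ x = ⟨𝒴.p.map ψ⟩) : ∃ s, D.val ψ s = x :=
  ⟨D.Φ ψ ⟨x, hx⟩, congrArg Subtype.val ((D.Φ ψ).symm_apply_apply _)⟩

theorem val_map {Y' : 𝒴.obj} (ψ : Y' ⟶ Y) (s : LQ hn Y) :
    D.val ψ (pull hn ψ s) = D.F.obj.obj.map (𝒴.p.map ψ).op (D.val (𝟙 Y) s) := by
  rw [← val_pull, Category.comp_id]

/-- Pullback along `ψ` is injective when the restriction of sections over the base is. -/
theorem pull_injective {Y' : 𝒴.obj} (ψ : Y' ⟶ Y)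
    (h : ∀ x y : D.F.obj.obj.obj (op (𝒴.p.obj Y)), D.π.hom.app _ x = ⟨𝟙 _⟩ → D.π.hom.app _ y = ⟨𝟙 _⟩ →
      D.F.obj.obj.map (𝒴.p.map ψ).op x = D.F.obj.obj.map (𝒴.p.map ψ).op y → x = y) :
    Function.Injective (pull hn ψ) := fun s t e =>
  D.val_injective (𝟙 Y) (h _ _ ((D.π_val (𝟙 Y) s).trans (by rw [𝒴.p.map_id]))
    ((D.π_val (𝟙 Y) t).trans (by rw [𝒴.p.map_id])) (by rw [← val_map, ← val_map, e]))

/-- Pullback along `ψ` is surjective when the restriction of sections over the base is. -/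
theorem pull_surjective {Y' : 𝒴.obj} (ψ : Y' ⟶ Y)
    (h : ∀ z : D.F.obj.obj.obj (op (𝒴.p.obj Y')), D.π.hom.app _ z = ⟨𝒴.p.map ψ⟩ →
      ∃ x, D.π.hom.app _ x = ⟨𝟙 (𝒴.p.obj Y)⟩ ∧ D.F.obj.obj.map (𝒴.p.map ψ).op x = z) :
    Function.Surjective (pull hn ψ) := fun t => by
  obtain ⟨x, hx, hz⟩ := h _ (D.π_val ψ t)
  obtain ⟨s, hs⟩ := D.val_surjective (𝟙 Y) (hx.trans (by rw [𝒴.p.map_id]))
  exact ⟨s, D.val_injective ψ (by rw [val_map, hs, hz])⟩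

include D in
theorem isSheafAt : IsSheafAt hn Y := by
  haveI := hn.fibY
  have hF : Presieve.IsSheaf (J₀ S) D.F.obj.obj := (isSheaf_iff_isSheaf_of_type _ _).1 D.F.obj.property
  have hy : Presieve.IsSheaf (J₀ S) ((AlgSp.yon S).obj (𝒴.p.obj Y)).obj :=
    (isSheaf_iff_isSheaf_of_type _ _).1 ((AlgSp.yon S).obj (𝒴.p.obj Y)).property
  constructor
  · intro R hR s t h
    refine D.val_injective (𝟙 Y) ((hF R hR).isSeparatedFor.ext fun V g hg => ?_)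
    obtain ⟨Y', ψ, hψ⟩ := hn.fibY.exists_lift g
    obtain rfl : 𝒴.p.obj Y' = V := IsHomLift.domain_eq 𝒴.p g ψ
    have hg' : 𝒴.p.map ψ = g := by
      haveI := hψ
      simpa using IsHomLift.fac' 𝒴.p g ψ
    rw [← hg', ← val_map, ← val_map, h ψ (hg'.symm ▸ hg)]
  · intro R hR σ hσ
    have key : ∀ ⦃V : Over S⦄ (g : V ⟶ 𝒴.p.obj Y) (_ : R g), ∃ x : D.F.obj.obj.obj (op V),
        D.π.hom.app _ x = ⟨g⟩ ∧ ∀ ⦃Y' : 𝒴.obj⦄ (ψ : Y' ⟶ Y) (h : R (𝒴.p.map ψ)) (k : 𝒴.p.obj Y' ⟶ V),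
          k ≫ g = 𝒴.p.map ψ → D.F.obj.obj.map k.op x = D.val ψ (σ ψ h) := by
      intro V g hg
      obtain ⟨Y₀, ψ₀, hψ₀⟩ := hn.fibY.exists_lift g
      obtain rfl : 𝒴.p.obj Y₀ = V := IsHomLift.domain_eq 𝒴.p g ψ₀
      have hg' : 𝒴.p.map ψ₀ = g := by
        haveI := hψ₀
        simpa using IsHomLift.fac' 𝒴.p g ψ₀
      subst hg'
      refine ⟨D.val ψ₀ (σ ψ₀ hg), D.π_val _ _, fun Y' ψ h k hk => ?_⟩
      haveI : 𝒴.p.IsHomLift (𝒴.p.map ψ₀) ψ₀ := IsHomLift.map _ _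
      haveI := FibBase.isSC (p := 𝒴.p) (𝒴.p.map ψ₀) ψ₀
      haveI : 𝒴.p.IsHomLift (𝒴.p.map ψ) ψ := IsHomLift.map _ _
      let m := IsStronglyCartesian.map 𝒴.p (𝒴.p.map ψ₀) ψ₀ (g := k) (f' := 𝒴.p.map ψ) hk.symm ψ
      have hfac : m ≫ ψ₀ = ψ := IsStronglyCartesian.fac 𝒴.p _ _ _ _
      have hm : 𝒴.p.map m = k := by
        simpa using IsHomLift.fac' 𝒴.p k m
      clear_value m
      subst hfac
      rw [← hσ m ψ₀ hg h, val_pull, hm]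
    choose x hxπ hx using key
    have hc : Presieve.FamilyOfElements.Compatible (P := D.F.obj.obj) (R := R.arrows) x := by
      rw [Presieve.compatible_iff_sieveCompatible]
      intro V W g k hg
      obtain ⟨Y₁, ψ₁, hψ₁⟩ := hn.fibY.exists_lift (k ≫ g)
      obtain rfl : 𝒴.p.obj Y₁ = W := IsHomLift.domain_eq 𝒴.p (k ≫ g) ψ₁
      have hg' : 𝒴.p.map ψ₁ = k ≫ g := by
        haveI := hψ₁
        simpa using IsHomLift.fac' 𝒴.p (k ≫ g) ψ₁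
      have hR' : R (𝒴.p.map ψ₁) := hg'.symm ▸ R.downward_closed hg k
      rw [hx g hg ψ₁ hR' k hg'.symm]
      have := hx (k ≫ g) (R.downward_closed hg k) ψ₁ hR' (𝟙 _) (by rw [Category.id_comp, hg'])
      simpa using this
    obtain ⟨X, hX, -⟩ := hF R hR x hc
    have hXπ : D.π.hom.app _ X = ⟨𝒴.p.map (𝟙 Y)⟩ := (hy R hR).isSeparatedFor.ext fun V g hg => by
      refine ((NatTrans.naturality_apply D.π.hom g.op X).symm).trans ?_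
      rw [hX g hg, hxπ g hg, 𝒴.p.map_id]
      exact congrArg ULift.up (Category.comp_id g).symm
    obtain ⟨s, hs⟩ := D.val_surjective (𝟙 Y) hXπ
    refine ⟨s, fun Y' ψ h => D.val_injective ψ ?_⟩
    rw [val_map, hs, hX _ h]
    simpa using hx (𝒴.p.map ψ) h ψ h (𝟙 _) (Category.id_comp _)

end RepAt

theorem isSheafAt_of_rep (hn : Nice f) {P : MorphismProperty (AlgSp.Sp S)} (hf : AlgSt.RepByAlgSpWith P f)
    (Y : 𝒴.obj) : IsSheafAt hn Y :=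
  (exists_repAt hn hf Y).some.isSheafAt

end Groth.Agent.Theta10
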